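import Cfsg.Agent.OddHalf.Iface
import Cfsg.Agent.SignalizersComponents.DistinctComponents
import Cfsg.Agent.CharactersDeep.QuatSylow
import Cfsg.Agent.Lib.Cores

/-!
# Front end of the nodes D5 - D9 (ODD half): from `Iface` to elements (helper971)

`Ctx G`, `Std G K`, `Cyc K` give an involution `t` and `q` with `t ∈ Q = ⟨q⟩`, `Q = C_G(K) ∩ C_G(t)` a cyclic
2-group, `K` a component of `C_G(t)`, normal in `C_G(t)`: `Start0 K t q`. If `Z(K) = 1` then moreover
`K ∩ Q = 1` and `K` is simple: `Start K t q`.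
-/

set_option autoImplicit false

namespace Cfsg.Agent.OddHalf.Front.FE

open Subgroup Cfsg Cfsg.Agent.OddHalf.Iface
open Cfsg.Agent.SignalizersComponents.DistinctComponents

universe u

variable {G : Type u} [Group G]

/-- the starting position of every node with cyclic `C(K)` -/
structure Start0 (K : Subgroup G) (t q : G) : Prop where
  tt : t * t = 1
  t1 : t ≠ 1
  tQ : t ∈ zpowers q
  pQ : IsPGroup 2 ↥(zpowers q)
  /-- `Q` centralizes `K` -/
  qK : ∀ x ∈ K, x * q = q * x
  /-- `K` is normal in `C(t)` -/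
  nK : ∀ g : G, g * t = t * g → g ∈ normalizer (K : Set G)
  /-- `C(K) ∩ C(t) = Q` -/
  cK : ∀ c : G, c * t = t * c → (∀ x ∈ K, x * c = c * x) → c ∈ zpowers q
  comp : CompOf t K

theorem mem_normalizer_iff_map {K : Subgroup G} {c : G} :
    c ∈ normalizer (K : Set G) ↔ K.map (MulAut.conj c).toMonoidHom = K := by
  constructor
  · intro h
    ext x
    constructor
    · rintro ⟨y, hy, rfl⟩
      exact (mem_normalizer_iff.1 h y).1 hy
    · intro hx
      refine ⟨c⁻¹ * x * c, ?_, ?_⟩
      · apply (mem_normalizer_iff.1 h _).2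
        have : c * (c⁻¹ * x * c) * c⁻¹ = x := by group
        rw [this]; exact hx
      · show c * (c⁻¹ * x * c) * c⁻¹ = x
        group
  · intro h
    rw [mem_normalizer_iff]
    intro x
    constructor
    · intro hx
      have h1 : c * x * c⁻¹ ∈ K.map (MulAut.conj c).toMonoidHom := ⟨x, hx, rfl⟩
      rwa [h] at h1
    · intro hx
      rw [← h] at hx
      obtain ⟨y, hy, hyx⟩ := hx
      have h1 : c * y * c⁻¹ = c * x * c⁻¹ := hyx
      have h2 : y = x := mul_left_cancel (mul_right_cancel h1)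
      rwa [← h2]

/-- for an involution `y` of `C(K)` the centralizer of `y` normalizes `K` -/
theorem centralizer_le_normalizer [Finite G] {K : Subgroup G} (T : Term0 G K)
    (hst : IsStandardSubgroup K) {y : G} (hy : orderOf y = 2) (hyK : y ∈ centralizer (K : Set G)) :
    centralizer ({y} : Set G) ≤ normalizer (K : Set G) := by
  intro c hc
  obtain ⟨hKy, hKc⟩ := T.term y hy hyK
  by_contra hn
  have hne : K.map (MulAut.conj c).toMonoidHom ≠ K := fun h => hn (mem_normalizer_iff_map.2 h)
  have hcy : c * y * c⁻¹ = y := by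
    rw [mem_centralizer_singleton_iff.1 hc]; group
  have h1 := isComponent_subgroupOf_conj hKy hKc c
  have h0 : (centralizer ({y} : Set G)).map (MulAut.conj c).toMonoidHom = centralizer ({y} : Set G) := by
    rw [map_conj_centralizer_singleton, hcy]
  rw [h0] at h1
  have hle : K.map (MulAut.conj c).toMonoidHom ≤ centralizer ({y} : Set G) := by
    rw [← h0]; exact map_mono hKy
  have hne' : K.subgroupOf (centralizer ({y} : Set G)) ≠
      (K.map (MulAut.conj c).toMonoidHom).subgroupOf (centralizer ({y} : Set G)) := by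
    intro h
    apply hne
    have := congrArg (Subgroup.map (centralizer ({y} : Set G)).subtype) h
    rw [subgroupOf_map_subtype, subgroupOf_map_subtype, inf_of_le_left hKy, inf_of_le_left hle] at this
    exact this.symm
  have h2 := distinct_components_commute hKc h1 hne'
  have h3 := commutator_subgroupOf_eq_bot hKy h2
  rw [inf_of_le_left hle] at h3
  exact hst.2.2.1 c hne h3

/-- a nontrivial finite cyclic 2-group contains an involution -/
theorem exists_involution {q : G} (hq1 : q ≠ 1) (hp : IsPGroup 2 ↥(zpowers q)) [Finite G] :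
    ∃ t ∈ zpowers q, t * t = 1 ∧ t ≠ 1 := by
  obtain ⟨n, hn⟩ := IsPGroup.iff_card.1 hp
  rw [Nat.card_zpowers] at hn
  have hn0 : n ≠ 0 := by
    rintro rfl
    rw [pow_zero, orderOf_eq_one_iff] at hn
    exact hq1 hn
  obtain ⟨m, rfl⟩ := Nat.exists_eq_succ_of_ne_zero hn0
  refine ⟨q ^ (2 ^ m), pow_mem (mem_zpowers q) _, ?_, ?_⟩
  · rw [← pow_add, ← two_mul, ← pow_succ', ← hn, pow_orderOf_eq_one]
  · intro h
    have h1 := orderOf_dvd_of_pow_eq_one h
    rw [hn] at h1
    have h2 := Nat.le_of_dvd (pow_pos two_pos m) h1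
    rw [Nat.succ_eq_add_one, pow_succ] at h2
    have := pow_pos (show 0 < 2 by norm_num) m
    omega

/-- **FE1**: the starting position. -/
theorem exists_start0 (C : Ctx G) {K : Subgroup G} (S : Std0 G K) (hcyc : Cyc K) :
    ∃ t q : G, Start0 K t q := by
  have := C.fin
  have hst := S.std
  set D : Subgroup G := centralizer (K : Set G) with hD
  -- a Sylow 2-subgroup of `C(K)`
  obtain ⟨P⟩ : Nonempty (Sylow 2 ↥D) := inferInstance
  have hPc := hcyc P
  obtain ⟨⟨q0, hq0P⟩, hq0⟩ := hPc.exists_generator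
  set q : G := (q0 : G) with hq
  -- the image of `P` in `G` is `zpowers q`
  have hPz : (P : Subgroup ↥D) = zpowers q0 := by
    apply le_antisymm
    · intro x hx
      obtain ⟨k, hk⟩ := mem_zpowers_iff.1 (hq0 ⟨x, hx⟩)
      exact mem_zpowers_iff.2 ⟨k, by simpa using congrArg Subtype.val hk⟩
    · rw [zpowers_le]; exact hq0P
  have hpQ : IsPGroup 2 ↥(zpowers q) := by
    have h1 : IsPGroup 2 ↥(zpowers q0) := by rw [← hPz]; exact P.isPGroup'
    have h2 := h1.map D.subtype
    have h3 : (zpowers q0).map D.subtype = zpowers q := by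
      rw [MonoidHom.map_zpowers]; rfl
    rwa [h3] at h2
  -- even order
  have heven : 2 ∣ Nat.card ↥D := (hst.2.1.1).two_dvd
  have hq1 : q ≠ 1 := by
    intro h
    have h1 : q0 = 1 := Subtype.ext h
    have h2 : (P : Subgroup ↥D) = ⊥ := by rw [hPz, h1, zpowers_one_eq_bot]
    have h3 : Nat.card ↥(P : Subgroup ↥D) = 1 := by rw [h2]; exact card_bot
    have h4 := P.card_eq_multiplicity
    rw [h3] at h4
    have h5 : (Nat.card ↥D).factorization 2 ≠ 0 := by
      have h6 : Nat.card ↥D ≠ 0 := Nat.card_pos.ne'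
      exact (Nat.prime_two.factorization_pos_of_dvd h6 heven).ne'
    obtain ⟨m, hm⟩ := Nat.exists_eq_succ_of_ne_zero h5
    rw [hm, pow_succ] at h4
    omega
  obtain ⟨t, htQ, htt, ht1⟩ := exists_involution hq1 hpQ
  have hto : orderOf t = 2 := orderOf_eq_prime (by rw [pow_two]; exact htt) ht1
  have hqD : q ∈ D := q0.2
  have hqK : ∀ x ∈ K, x * q = q * x := fun x hx => mem_centralizer_iff.1 hqD x hx
  have htD : t ∈ D := (zpowers_le.2 hqD) htQ
  have hcomp := S.term t hto htD
  have hnK : centralizer ({t} : Set G) ≤ normalizer (K : Set G) :=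
    centralizer_le_normalizer S.toTerm0 hst hto htD
  have htq : ∀ y ∈ zpowers q, y * t = t * y := by
    intro y hy
    obtain ⟨a, rfl⟩ := mem_zpowers_iff.1 hy
    obtain ⟨b, hb⟩ := mem_zpowers_iff.1 htQ
    rw [← hb, ← zpow_add, ← zpow_add, add_comm]
  refine ⟨t, q, htt, ht1, htQ, hpQ, hqK, fun g hg => hnK (mem_centralizer_singleton_iff.2 hg), ?_, hcomp⟩
  -- the group `E = C(K) ∩ C(t)`
  set E : Subgroup G := D ⊓ centralizer ({t} : Set G) with hE
  set E1 : Subgroup ↥D := E.subgroupOf D with hE1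
  have hPE : (P : Subgroup ↥D) ≤ E1 := by
    rw [hPz, zpowers_le]
    exact mem_subgroupOf.2 ⟨q0.2, mem_centralizer_singleton_iff.2 (htq q (mem_zpowers q))⟩
  let P1 : Sylow 2 ↥E1 := P.subtype hPE
  have hP1c : IsCyclic ↥(P1 : Subgroup ↥E1) := by
    have h1 : (P1 : Subgroup ↥E1) = (P : Subgroup ↥D).subgroupOf E1 := rfl
    rw [h1]
    exact isCyclic_of_surjective _ (subgroupOfEquivOfLe hPE).symm.surjective
  obtain ⟨N, hNodd, hNP, hN⟩ := Cfsg.Agent.CharactersDeep.QuatSylow.exists_two_complement P1 hP1c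
  -- `N` is trivial
  have hNbot : N = ⊥ := by
    set N2 : Subgroup G := (N.map E1.subtype).map D.subtype with hN2
    have hmem : ∀ x : G, x ∈ N2 ↔ x ∈ E ∧ Odd (orderOf x) := by
      intro x
      constructor
      · rintro ⟨y, ⟨w, hw, rfl⟩, rfl⟩
        refine ⟨mem_subgroupOf.1 w.2, ?_⟩
        have h1 := (hN w).1 hw
        have h2 : orderOf (D.subtype (E1.subtype w)) = orderOf w := by
          rw [orderOf_injective _ D.subtype_injective, orderOf_injective _ E1.subtype_injective]
        rw [h2]; exact h1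
      · rintro ⟨hx, ho⟩
        have hxD : x ∈ D := hx.1
        refine ⟨⟨x, hxD⟩, ⟨⟨⟨x, hxD⟩, mem_subgroupOf.2 hx⟩, ?_, rfl⟩, rfl⟩
        apply (hN _).2
        rw [← orderOf_injective _ E1.subtype_injective, ← orderOf_injective _ D.subtype_injective]
        exact ho
    have hN2C : N2 ≤ centralizer ({t} : Set G) := fun x hx => ((hmem x).1 hx).1.2
    have hnorm : (N2.subgroupOf (centralizer ({t} : Set G))).Normal := by
      refine ⟨fun x hx g => ?_⟩
      rw [mem_subgroupOf, hmem] at hx ⊢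
      obtain ⟨⟨hx1, hx2⟩, hx3⟩ := hx
      have hg : (g : G) ∈ normalizer (K : Set G) := hnK g.2
      refine ⟨⟨?_, (g * x * g⁻¹).2⟩, ?_⟩
      · show (g : G) * x * (g : G)⁻¹ ∈ D
        rw [hst.2.2.2] at hg
        exact (mem_normalizer_iff.1 hg _).1 hx1
      · have h1 : orderOf ((g : G) * x * (g : G)⁻¹) = orderOf (x : G) := by
          have h2 : (g : G) * x * (g : G)⁻¹ = MulAut.conj (g : G) x := rfl
          rw [h2]
          exact orderOf_injective (MulAut.conj (g : G)).toMonoidHom (MulAut.conj (g : G)).injective _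
        show Odd (orderOf ((g : G) * x * (g : G)⁻¹))
        rw [h1]; exact hx3
    have hcard : (Nat.card ↥(N2.subgroupOf (centralizer ({t} : Set G)))).Coprime 2 := by
      have h1 : Nat.card ↥(N2.subgroupOf (centralizer ({t} : Set G))) = Nat.card ↥N2 :=
        Nat.card_congr (subgroupOfEquivOfLe hN2C).toEquiv
      have h2 : Nat.card ↥N2 = Nat.card ↥N := by
        rw [hN2, ← Nat.card_congr ((N.map E1.subtype).equivMapOfInjective _ D.subtype_injective).toEquiv,
          ← Nat.card_congr (N.equivMapOfInjective _ E1.subtype_injective).toEquiv]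
      rw [h1, h2]
      exact Nat.coprime_two_right.2 hNodd
    have hle := Cfsg.Agent.Lib.Cores.le_pPrimeCore hnorm hcard
    have hbal := C.bal t hto
    have h3 : N2 = ⊥ := by
      rw [eq_bot_iff]
      intro x hx
      have h4 : (⟨x, hN2C hx⟩ : centralizer ({t} : Set G)) ∈
          pPrimeCore 2 ↥(centralizer ({t} : Set G)) := hle (mem_subgroupOf.2 hx)
      have h5 : x ∈ centralizerPPrimeCore 2 t := ⟨_, h4, rfl⟩
      rw [hbal] at h5
      exact h5
    rw [eq_bot_iff]
    intro x hx
    have h6 : D.subtype (E1.subtype x) ∈ N2 := ⟨_, ⟨x, hx, rfl⟩, rfl⟩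
    rw [h3, mem_bot] at h6
    rw [mem_bot]
    exact Subtype.ext (Subtype.ext h6)
  intro c hct hcK
  have hcE : c ∈ E := ⟨mem_centralizer_iff.2 fun x hx => hcK x hx,
    mem_centralizer_singleton_iff.2 hct⟩
  rw [hNbot, bot_sup_eq] at hNP
  have h1 : (⟨⟨c, hcE.1⟩, mem_subgroupOf.2 hcE⟩ : ↥E1) ∈ (P1 : Subgroup ↥E1) := by
    rw [hNP]; exact mem_top _
  have h2 : (⟨c, hcE.1⟩ : ↥D) ∈ (P : Subgroup ↥D) := h1
  rw [hPz] at h2
  obtain ⟨k, hk⟩ := mem_zpowers_iff.1 h2
  exact mem_zpowers_iff.2 ⟨k, congrArg Subtype.val hk⟩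

/-- the starting position for a simple standard component -/
structure Start (K : Subgroup G) (t q : G) : Prop extends Start0 K t q where
  simple : IsSimpleGroup ↥K
  /-- `Z(K) = 1` -/
  cen : ∀ x ∈ K, (∀ y ∈ K, y * x = x * y) → x = 1

namespace Start0

variable {K : Subgroup G} {t q : G}

theorem QK (h : Start0 K t q) : ∀ y ∈ zpowers q, ∀ x ∈ K, x * y = y * x := by
  intro y hy x hx
  have h1 : q ∈ centralizer (K : Set G) := mem_centralizer_iff.2 fun x hx => h.qK x hx
  exact mem_centralizer_iff.1 ((zpowers_le.2 h1) hy) x hx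

theorem Kt (h : Start0 K t q) : ∀ x ∈ K, x * t = t * x := fun x hx => h.QK t h.tQ x hx

theorem Qt (h : Start0 K t q) : ∀ y ∈ zpowers q, y * t = t * y := by
  intro y hy
  obtain ⟨a, rfl⟩ := mem_zpowers_iff.1 hy
  obtain ⟨b, hb⟩ := mem_zpowers_iff.1 h.tQ
  rw [← hb, ← zpow_add, ← zpow_add, add_comm]

/-- `t` is the only involution of `Q` -/
theorem uniq [Finite G] (h : Start0 K t q) {y : G} (hy : y ∈ zpowers q) (hyy : y * y = 1)
    (hy1 : y ≠ 1) : y = t := by
  classical
  by_contra hne
  have : Fintype ↥(zpowers q) := Fintype.ofFinite _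
  have h1 := IsCyclic.card_pow_eq_one_le (α := ↥(zpowers q)) (n := 2) two_pos
  have h2 : ({1, ⟨t, h.tQ⟩, ⟨y, hy⟩} : Finset ↥(zpowers q)) ⊆
      Finset.univ.filter (fun a : ↥(zpowers q) => a ^ 2 = 1) := by
    intro a ha
    rw [Finset.mem_insert, Finset.mem_insert, Finset.mem_singleton] at ha
    rw [Finset.mem_filter]
    refine ⟨Finset.mem_univ _, ?_⟩
    rcases ha with rfl | rfl | rfl
    · exact one_pow 2
    · exact Subtype.ext (by rw [Subgroup.coe_pow, pow_two]; exact h.tt)
    · exact Subtype.ext (by rw [Subgroup.coe_pow, pow_two]; exact hyy)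
  have h3 : ({1, ⟨t, h.tQ⟩, ⟨y, hy⟩} : Finset ↥(zpowers q)).card = 3 := by
    rw [Finset.card_eq_three]
    refine ⟨_, _, _, ?_, ?_, ?_, rfl⟩
    · intro h4
      exact h.t1 (congrArg Subtype.val h4).symm
    · intro h4
      exact hy1 (congrArg Subtype.val h4).symm
    · intro h4
      exact hne (congrArg Subtype.val h4).symm
  have h4 := Finset.card_le_card h2
  omega

end Start0

/-- **FE1**: the starting position, `Z(K) = 1`. -/
theorem exists_start (C : Ctx G) {K : Subgroup G} (S : Std G K) (hcyc : Cyc K)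
    (hcen : center ↥K = ⊥) : ∃ t q : G, Start K t q := by
  obtain ⟨t, q, h⟩ := exists_start0 C S.toStd0 hcyc
  refine ⟨t, q, h, ?_, ?_⟩
  · have h1 := S.simple
    have e : ↥K ⧸ center ↥K ≃* ↥K :=
      (QuotientGroup.quotientMulEquivOfEq hcen).trans QuotientGroup.quotientBot
    exact e.symm.isSimpleGroup
  · intro x hx hc
    have h1 : (⟨x, hx⟩ : ↥K) ∈ center ↥K := mem_center_iff.2 fun y => Subtype.ext (hc y y.2)
    rw [hcen, mem_bot] at h1
    exact congrArg Subtype.val h1

/-- `G` is perfect -/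
theorem commutator_eq_top (C : Ctx G) : commutator G = ⊤ := by
  have := C.simple
  have h : (commutator G).Normal := inferInstance
  rcases h.eq_bot_or_eq_top with h1 | h1
  · exfalso
    apply C.na
    refine ⟨⟨fun a b => ?_⟩⟩
    have h2 : a * b * a⁻¹ * b⁻¹ ∈ commutator G := by
      rw [commutator_def]
      exact commutator_mem_commutator (mem_top a) (mem_top b)
    rw [h1, mem_bot, mul_inv_eq_one, mul_inv_eq_iff_eq_mul] at h2
    exact h2
  · exact h1

/-- `G` has no subgroup of index two -/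
theorem index_ne_two (C : Ctx G) (H : Subgroup G) : H.index ≠ 2 := by
  have := C.simple
  intro h
  have hn : H.Normal := normal_of_index_eq_two h
  rcases hn.eq_bot_or_eq_top with h1 | h1
  · rw [h1, index_bot] at h
    apply C.na
    have : IsCyclic G := isCyclic_of_prime_card (p := 2) (hp := ⟨Nat.prime_two⟩) h
    exact ⟨⟨fun a b => by
      obtain ⟨g, hg⟩ := IsCyclic.exists_generator (α := G)
      obtain ⟨m, rfl⟩ := mem_zpowers_iff.1 (hg a)
      obtain ⟨n, rfl⟩ := mem_zpowers_iff.1 (hg b)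
      rw [← zpow_add, ← zpow_add, add_comm]⟩⟩
  · rw [h1, index_top] at h
    omega

end Cfsg.Agent.OddHalf.Front.FE
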