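import Cfsg.Agent.OddHalf.Front.CycT
import Cfsg.Agent.OddHalf.D8.GlueE

/-!
# From the sheet of `K` to the frame (helper971)

`facts`: the starting position and a sheet `Basic z P` of `K` give `CycT.Facts` for a Sylow 2-subgroup `T` of
`C(t)`. `front`: what the nodes with `Z(S_K)` of order 2 get from `Iface`.
-/

set_option autoImplicit false

namespace Cfsg.Agent.OddHalf.Front.OfSheet

open Subgroup Cfsg.Agent.OddHalf.Front.FE Cfsg.Agent.OddHalf.D8.Sheet Cfsg.Agent.OddHalf.D8.GlueE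

universe u

variable {G : Type u} [Group G]

/-- inner automorphisms are normal -/
theorem inn_normal (K : Type*) [Group K] : (MulAut.conj : K →* MulAut K).range.Normal := by
  refine ⟨?_⟩
  rintro _ ⟨k, rfl⟩ α
  refine ⟨α k, ?_⟩
  ext x
  simp [MulAut.conj_apply, MulAut.mul_apply, MulAut.inv_def]

variable {K : Subgroup G} {t q : G} {z : K} {P : Subgroup K}

/-- an element of `C(t)` inducing an inner automorphism lies in `QK` -/
theorem mem_of_inn (h : Start K t q) {y : G} (hyt : y * t = t * y)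
    (hy : K.normalizerMonoidHom ⟨y, h.nK y hyt⟩ ∈ (MulAut.conj : K →* MulAut K).range) :
    y ∈ zpowers q ⊔ K := by
  obtain ⟨k, hk⟩ := hy
  have h2 := exists_of_conj (h.nK y hyt) hk.symm
  have h3 : (k : G)⁻¹ * y ∈ zpowers q := by
    apply h.cK
    · have h4 := h.Kt (k : G)⁻¹ (K.inv_mem k.2)
      calc (k : G)⁻¹ * y * t = (k : G)⁻¹ * (y * t) := by group
        _ = ((k : G)⁻¹ * t) * y := by rw [hyt]; group
        _ = t * ((k : G)⁻¹ * y) := by rw [h4]; group
    · exact h2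
  have h5 : y = (k : G) * ((k : G)⁻¹ * y) := by group
  rw [h5]
  exact (zpowers q ⊔ K).mul_mem ((le_sup_right : K ≤ _) k.2) ((le_sup_left : zpowers q ≤ _) h3)

/-- the outer part -/
theorem idx_of_out [Finite G] (h : Start K t q) (hout : ¬ 4 ∣ (MulAut.conj : K →* MulAut K).range.index)
    {T : Subgroup G} (hT : IsPGroup 2 ↥T) (htc : ∀ x ∈ T, x * t = t * x) {a b : G} (ha : a ∈ T) (hb : b ∈ T)
    (haM : a ∉ zpowers q ⊔ K) (hbM : b ∉ zpowers q ⊔ K) : a * b⁻¹ ∈ zpowers q ⊔ K := by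
  have hle : T ≤ normalizer (K : Set G) := fun g hg => h.nK g (htc g hg)
  let f : T →* MulAut K := K.normalizerMonoidHom.comp (inclusion hle)
  set I : Subgroup (MulAut K) := (MulAut.conj : K →* MulAut K).range with hI
  have : I.Normal := inn_normal K
  have h1 : I.relIndex f.range ∣ I.index := relIndex_dvd_index_of_normal I f.range
  have hfp : IsPGroup 2 ↥f.range := hT.of_surjective f.rangeRestrict f.rangeRestrict_surjective
  obtain ⟨n, hn⟩ : ∃ n, I.relIndex f.range = 2 ^ n := by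
    have := hfp.index (I.subgroupOf f.range)
    exact this
  have h2 : n ≤ 1 := by
    by_contra h2
    apply hout
    refine dvd_trans ?_ h1
    rw [hn, show (4 : ℕ) = 2 ^ 2 by norm_num]
    exact pow_dvd_pow 2 (by omega)
  have h3 : ∀ (g : G) (hg : g ∈ T), f ⟨g, hg⟩ ∈ I → g ∈ zpowers q ⊔ K := fun g hg hgI =>
    mem_of_inn h (htc g hg) hgI
  have hfa : f ⟨a, ha⟩ ∈ f.range := ⟨_, rfl⟩
  have hfb : f ⟨b, hb⟩ ∈ f.range := ⟨_, rfl⟩
  rcases Nat.le_one_iff_eq_zero_or_eq_one.1 h2 with h4 | h4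
  · exfalso
    rw [h4, pow_zero, relIndex_eq_one] at hn
    exact haM (h3 a ha (hn hfa))
  · rw [h4, pow_one] at hn
    have h5 : (I.subgroupOf f.range).index = 2 := hn
    have h6 : (⟨f ⟨a, ha⟩, hfa⟩ * ⟨f ⟨b, hb⟩, hfb⟩⁻¹ : ↥f.range) ∈ I.subgroupOf f.range := by
      rw [mul_mem_iff_of_index_two h5]
      constructor
      · intro h7
        exact absurd (h3 a ha (mem_subgroupOf.1 h7)) haM
      · intro h7
        exact absurd (h3 b hb (mem_subgroupOf.1 (by rwa [inv_mem_iff] at h7))) hbM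
    apply h3 (a * b⁻¹) (T.mul_mem ha (T.inv_mem hb))
    have h7 := mem_subgroupOf.1 h6
    have h8 : f ⟨a * b⁻¹, T.mul_mem ha (T.inv_mem hb)⟩ = f ⟨a, ha⟩ * (f ⟨b, hb⟩)⁻¹ := by
      rw [← map_inv, ← map_mul]
      rfl
    rw [h8]
    exact h7

/-- **`CycT.Facts` from a sheet** -/
theorem facts [Finite G] (E : Emb K t q z P) : ∃ T : Subgroup G, CycT.Facts K t q (z : G) T := by
  obtain ⟨S, hzS, hzc, hZ⟩ := E.sh.syl
  set C : Subgroup G := centralizer ({t} : Set G) with hC
  have hKC : K ≤ C := fun x hx => mem_centralizer_singleton_iff.2 (E.st.Kt x hx)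
  have hS' : IsPGroup 2 ↥((S : Subgroup K).map K.subtype) := S.isPGroup'.map _
  have hS'C : (S : Subgroup K).map K.subtype ≤ C := by
    rintro _ ⟨y, -, rfl⟩
    exact hKC y.2
  obtain ⟨TS, hTS⟩ := (hS'.comap_of_injective C.subtype C.subtype_injective).exists_le_sylow
  have hTC : (TS : Subgroup C).map C.subtype ≤ C := by
    rintro _ ⟨y, -, rfl⟩
    exact y.2
  have hpT : IsPGroup 2 ↥((TS : Subgroup C).map C.subtype) := TS.isPGroup'.map _
  have hST : (S : Subgroup K).map K.subtype ≤ (TS : Subgroup C).map C.subtype := by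
    intro x hx
    exact ⟨⟨x, hS'C hx⟩, hTS hx, rfl⟩
  have htc : ∀ x ∈ (TS : Subgroup C).map C.subtype, x * t = t * x := fun x hx =>
    mem_centralizer_singleton_iff.1 (hTC hx)
  -- `T ∩ K = S`
  have hTK : ∀ x (hx : x ∈ K), x ∈ (TS : Subgroup C).map C.subtype → (⟨x, hx⟩ : K) ∈ S := by
    have h1 : IsPGroup 2 ↥(((TS : Subgroup C).map C.subtype).subgroupOf K) :=
      hpT.comap_of_injective K.subtype K.subtype_injective
    have h2 := S.is_maximal' h1 (fun y hy => mem_subgroupOf.2 (hST ⟨y, hy, rfl⟩))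
    intro x hx hxT
    have h3 : (⟨x, hx⟩ : K) ∈ ((TS : Subgroup C).map C.subtype).subgroupOf K := mem_subgroupOf.2 hxT
    rw [h2] at h3
    exact h3
  have hKT : ∀ x : K, x ∈ S → (x : G) ∈ (TS : Subgroup C).map C.subtype := fun x hx => hST ⟨x, hx, rfl⟩
  refine ⟨(TS : Subgroup C).map C.subtype,
    { toStart := E.st
      pT := hpT
      tc := htc
      max := ?_
      z1 := E.z1
      zT := hKT z hzS
      zK := z.2
      zS := ?_
      P1 := ?_
      T1s := ?_
      idx := ?_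
      iso := ?_ }⟩
  · intro R hR hle hRt
    have h1 : IsPGroup 2 ↥(R.subgroupOf C) := hR.comap_of_injective C.subtype C.subtype_injective
    have h2 := TS.is_maximal' h1 (fun y hy => mem_subgroupOf.2 (hle ⟨y, hy, rfl⟩))
    intro x hx
    have hxC : x ∈ C := mem_centralizer_singleton_iff.2 (hRt x hx)
    have h3 : (⟨x, hxC⟩ : C) ∈ R.subgroupOf C := mem_subgroupOf.2 hx
    rw [h2] at h3
    exact ⟨⟨x, hxC⟩, h3, rfl⟩
  · intro x hxT hxK
    exact congrArg Subtype.val (hzc ⟨x, hxK⟩ (hTK x hxK hxT))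
  · intro y hyT hyK hy
    rcases hZ ⟨y, hyK⟩ (hTK y hyK hyT) (fun x hx => Subtype.ext (hy x (hKT x hx) x.2)) with h | h
    · exact Or.inl (congrArg Subtype.val h)
    · exact Or.inr (congrArg Subtype.val h)
  · intro y hyt hy2 hy
    apply mem_of_inn E.st hyt
    obtain ⟨k, hk⟩ := E.sh.sylAut S hzc (K.normalizerMonoidHom ⟨y, E.st.nK y hyt⟩)
      (isPGroup_nmh (E.st.nK y hyt) hy2) (by
        intro x hx
        apply Subtype.ext
        rw [nmh_apply, ← hy x (hKT x hx) x.2]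
        group)
    exact ⟨k, hk.symm⟩
  · intro a ha b hb haM hbM
    exact idx_of_out E.st E.sh.out hpT htc ha hb haM hbM
  · intro g h1 h2
    exact (E.iso g h1 h2).1

/-- what the front end gives -/
structure Pos (K : Subgroup G) (t q : G) (z : K) (P : Subgroup K) (T : Subgroup G) (S : Sylow 2 G) (x : G) :
    Prop extends Emb K t q z P where
  facts : CycT.Facts K t q (z : G) T
  frame : TR.Frame t (z : G) T
  /-- `C(K) ∩ C(t) = ⟨t⟩` -/
  Q2 : ∀ y ∈ zpowers q, y = 1 ∨ y = t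
  TS : T < (S : Subgroup G)
  /-- `z` is central in the Sylow subgroup `S` of `G` -/
  Sz : ∀ s ∈ (S : Subgroup G), s * z = z * s
  xS : x ∈ (S : Subgroup G)
  xN : x ∈ normalizer (T : Set G)
  xT : x ∉ T
  xt : x * t * x⁻¹ = t * z
  xz : x * z * x⁻¹ = z
  nc : ∀ g, g * t * g⁻¹ ≠ z
  /-- `t ∈ [C(z), C(z)]` -/
  tH : (⟨t, mem_centralizer_singleton_iff.2 frame.comm⟩ : centralizer ({(z : G)} : Set G)) ∈
    commutator (centralizer ({(z : G)} : Set G))

/-- **The front end**: from `Iface` and a sheet of `K`. -/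
theorem front [Finite G] (hG : Iface.Ctx G) (hK : Iface.Std G K) (hC : Iface.Cyc K)
    (hcen : center (↥K) = ⊥) (sh : Basic z P) :
    ∃ t q T S x, Pos K t q z P T S x := by
  obtain ⟨t, q, st⟩ := exists_start hG hK hC hcen
  have E : Emb K t q z P := ⟨st, sh⟩
  obtain ⟨T, F⟩ := facts E
  obtain ⟨Fr, hQ, S, hTS, hSz, ⟨x, hxS, hxN, hxT, hxt, hxz⟩, hnc, htH⟩ :=
    CycT.main F (commutator_eq_top hG) (index_ne_two hG)
  exact ⟨t, q, T, S, x,
    { toEmb := E
      facts := F
      frame := Fr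
      Q2 := hQ
      TS := hTS
      Sz := hSz
      xS := hxS
      xN := hxN
      xT := hxT
      xt := hxt
      xz := hxz
      nc := hnc
      tH := htH }⟩

end Cfsg.Agent.OddHalf.Front.OfSheet
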