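import Mathlib

/-!
# Transfer of an element `x` with a 2-group `D` commuting with `x`

Only the `⟨x⟩`-orbits on `G ⧸ H` fixed by `D` count (helper971).
-/

set_option autoImplicit false

namespace Cfsg.Agent.OddHalf.Front.OrbitTransfer

open MulAction Subgroup

variable {G : Type*} [Group G]

/-- The coset `gH` is fixed by `x` iff `g⁻¹ x g ∈ H`. -/
theorem smul_mk_eq (H : Subgroup G) (x g : G) :
    x • (g : G ⧸ H) = (g : G ⧸ H) ↔ g⁻¹ * x * g ∈ H := by
  rw [MulAction.Quotient.smul_mk, smul_eq_mul, eq_comm, QuotientGroup.eq, mul_assoc]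

open Classical in
/-- A `2`-group acting on a finite set with an invariant function whose values have square one: only the
fixed points count. -/
theorem prod_fixed {P X A : Type*} [Group P] [MulAction P X] [CommGroup A] [Finite P]
    (hP : IsPGroup 2 P) (s : Finset X) (hs : ∀ (p : P) (x : X), x ∈ s → p • x ∈ s) (f : X → A)
    (hf : ∀ (p : P) (x : X), x ∈ s → f (p • x) = f x) (h2 : ∀ x ∈ s, f x ^ 2 = 1) :
    ∏ x ∈ s, f x = ∏ x ∈ s.filter (fun x => ∀ p : P, p • x = x), f x := by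
  have : Fact (Nat.Prime 2) := ⟨Nat.prime_two⟩
  rw [← Finset.prod_filter_mul_prod_filter_not s (fun x => ∀ p : P, p • x = x)]
  conv_rhs => rw [← mul_one (∏ x ∈ s.filter (fun x => ∀ p : P, p • x = x), f x)]
  congr 1
  set s' := s.filter (fun x => ¬ ∀ p : P, p • x = x) with hs'
  have hs'm : ∀ (p : P) (x : X), x ∈ s' → p • x ∈ s' := by
    intro p x hx
    rw [hs', Finset.mem_filter] at hx ⊢
    refine ⟨hs p x hx.1, fun h => hx.2 fun r => ?_⟩
    have h1 : p • x = x := by
      have := h p⁻¹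
      rw [inv_smul_smul] at this
      exact this.symm
    have h2 := h r
    rwa [h1] at h2
  rw [Finset.prod_comp (fun a => a) f]
  apply Finset.prod_eq_one
  intro a ha
  obtain ⟨x0, hx0, rfl⟩ := Finset.mem_image.1 ha
  set F : Finset X := s'.filter (fun x => f x = f x0) with hF
  have hsub : ∀ x ∈ s', x ∈ s := fun x hx => (Finset.mem_filter.1 hx).1
  have hFm : ∀ (p : P) (x : X), x ∈ F → p • x ∈ F := by
    intro p x hx
    rw [hF, Finset.mem_filter] at hx ⊢
    exact ⟨hs'm p x hx.1, by rw [hf p x (hsub x hx.1)]; exact hx.2⟩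
  let act : MulAction P F :=
    { smul := fun p x => ⟨p • (x : X), hFm p x x.2⟩
      one_smul := fun x => Subtype.ext (one_smul P (x : X))
      mul_smul := fun p q x => Subtype.ext (mul_smul p q (x : X)) }
  have h3 := hP.card_modEq_card_fixedPoints F
  have h4 : MulAction.fixedPoints P F = ∅ := by
    rw [Set.eq_empty_iff_forall_notMem]
    intro x hx
    have hx2 := (Finset.mem_filter.1 (Finset.mem_filter.1 x.2).1).2
    exact hx2 fun p => congrArg Subtype.val (hx p)
  have h40 : Nat.card (MulAction.fixedPoints P F) = 0 := by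
    rw [h4]; simp
  rw [h40] at h3
  have h5 : Even F.card := by
    rw [Nat.even_iff]
    have h6 : Nat.card F = F.card := by simp
    rw [h6] at h3
    exact h3
  obtain ⟨k, hk⟩ := h5
  have h7 : (s'.filter (fun x => f x = f x0)).card = k + k := hk
  rw [h7, ← two_mul, pow_mul, h2 x0 (hsub x0 hx0), one_pow]

variable (H : Subgroup G)

/-- the orbits of `x` on the cosets -/
abbrev Orb (x : G) : Type _ := Quotient (orbitRel (Subgroup.zpowers x) (G ⧸ H))

variable {A : Type*} [CommGroup A]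

/-- the contribution of an orbit -/
noncomputable def F (φ : H →* A) (x : G) (o : Orb H x) : A :=
  φ ⟨o.out.out⁻¹ * x ^ Function.minimalPeriod (x • ·) o.out * o.out.out,
    QuotientGroup.out_conj_pow_minimalPeriod_mem H x o.out⟩

theorem period_smul {X : Type*} [MulAction G X] {x y : G} (h : y * x = x * y) (a : X) :
    Function.minimalPeriod (x • ·) (y • a) = Function.minimalPeriod (x • ·) a := by
  have key : ∀ (z : G) (b : X), z * x = x * z →
      Function.minimalPeriod (x • ·) (z • b) ∣ Function.minimalPeriod (x • ·) b := by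
    intro z b hz
    rw [← pow_smul_eq_iff_minimalPeriod_dvd, ← mul_smul]
    have h1 : x ^ Function.minimalPeriod (x • ·) b * z = z * x ^ Function.minimalPeriod (x • ·) b :=
      ((show Commute z x from hz).pow_right _).eq.symm
    rw [h1, mul_smul]
    congr 1
    exact pow_smul_eq_iff_minimalPeriod_dvd.2 dvd_rfl
  apply Nat.dvd_antisymm (key y a h)
  have h2 := key y⁻¹ (y • a) (by rw [inv_mul_eq_iff_eq_mul, ← mul_assoc, h, mul_inv_cancel_right])
  rwa [inv_smul_smul] at h2

theorem F_mk (φ : H →* A) (x g : G) {k : ℕ}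
    (hk : Function.minimalPeriod (x • ·) (g : G ⧸ H) = k) (h : g⁻¹ * x ^ k * g ∈ H) :
    F H φ x (Quotient.mk'' (g : G ⧸ H)) = φ ⟨g⁻¹ * x ^ k * g, h⟩ := by
  set o : Orb H x := Quotient.mk'' (g : G ⧸ H) with ho
  have h1 : (orbitRel (Subgroup.zpowers x) (G ⧸ H)) o.out (g : G ⧸ H) := by
    apply Quotient.exact
    rw [Quotient.out_eq]
  obtain ⟨⟨y, hy⟩, hyo⟩ := h1
  have hyo' : y • (g : G ⧸ H) = o.out := hyo
  have hyx : y * x = x * y := by
    obtain ⟨m, rfl⟩ := mem_zpowers_iff.1 hy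
    rw [← zpow_add_one, ← zpow_one_add, add_comm]
  have hper : Function.minimalPeriod (x • ·) o.out = k := by
    rw [← hyo', period_smul hyx, hk]
  obtain ⟨c, hc, hco⟩ : ∃ c ∈ H, o.out.out = y * g * c := by
    refine ⟨(y * g)⁻¹ * o.out.out, ?_, by group⟩
    rw [← QuotientGroup.eq, QuotientGroup.out_eq', ← hyo']
    rfl
  have h2 : o.out.out⁻¹ * x ^ k * o.out.out = c⁻¹ * (g⁻¹ * x ^ k * g) * c := by
    rw [hco]
    have h3 : y⁻¹ * x ^ k * y = x ^ k := by
      have : y * x ^ k = x ^ k * y := ((show Commute y x from hyx).pow_right k).eq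
      rw [mul_assoc, ← this, inv_mul_cancel_left]
    calc (y * g * c)⁻¹ * x ^ k * (y * g * c) = c⁻¹ * (g⁻¹ * (y⁻¹ * x ^ k * y) * g) * c := by group
      _ = _ := by rw [h3]
  unfold F
  have h4 : (⟨o.out.out⁻¹ * x ^ Function.minimalPeriod (x • ·) o.out * o.out.out,
      QuotientGroup.out_conj_pow_minimalPeriod_mem H x o.out⟩ : H) =
      (⟨c, hc⟩ : H)⁻¹ * ⟨g⁻¹ * x ^ k * g, h⟩ * ⟨c, hc⟩ := by
    apply Subtype.ext
    show o.out.out⁻¹ * x ^ Function.minimalPeriod (x • ·) o.out * o.out.out = _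
    rw [hper, h2]
    rfl
  rw [h4, map_mul, map_mul, map_inv, mul_comm (φ ⟨c, hc⟩)⁻¹, inv_mul_cancel_right]

/-- the action of a group commuting with `x` on the orbits of `x` -/
@[reducible] def orbAction (x : G) (D : Subgroup G) (hDx : ∀ d ∈ D, d * x = x * d) :
    MulAction D (Orb H x) where
  smul d o := Quotient.map' (fun a : G ⧸ H => (d : G) • a) (by
    rintro a b ⟨⟨y, hy⟩, hab⟩
    refine ⟨⟨y, hy⟩, ?_⟩
    have hab' : y • b = a := hab
    show y • ((d : G) • b) = (d : G) • a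
    have hyd : y * (d : G) = (d : G) * y := by
      obtain ⟨m, rfl⟩ := mem_zpowers_iff.1 hy
      exact ((show Commute (d : G) x from hDx d d.2).zpow_right m).eq.symm
    rw [← hab', ← mul_smul, ← mul_smul, hyd]) o
  one_smul o := by
    induction o using Quotient.inductionOn' with
    | h a =>
      show (Quotient.mk'' ((1 : G) • a) : Orb H x) = _
      rw [one_smul]
  mul_smul d e o := by
    induction o using Quotient.inductionOn' with
    | h a =>
      show (Quotient.mk'' (((d : G) * (e : G)) • a) : Orb H x) = Quotient.mk'' ((d : G) • (e : G) • a)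
      rw [mul_smul]

open Classical in
/-- **Main formula**: if `H` is the only coset whose `⟨x⟩`-orbit is fixed by `D` with a non-trivial
contribution, then the transfer of `φ` at `x` is `φ x`. -/
theorem transfer_eq_single' [Finite G] (φ : H →* A) (x : G) (D : Subgroup G) (hD : IsPGroup 2 D)
    (hDx : ∀ d ∈ D, d * x = x * d) (hx : x ∈ H) (hDH : D ≤ H)
    (hsq : ∀ (g : G) (k : ℕ) (h : g⁻¹ * x ^ k * g ∈ H), φ ⟨g⁻¹ * x ^ k * g, h⟩ ^ 2 = 1)
    (hval : ∀ g : G, g ∉ H → (∀ d ∈ D, ∃ m : ℤ, g⁻¹ * (x ^ m * d) * g ∈ H) →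
      ∀ k : ℕ, (∀ j : ℕ, g⁻¹ * x ^ j * g ∈ H ↔ k ∣ j) →
        ∀ h : g⁻¹ * x ^ k * g ∈ H, φ ⟨g⁻¹ * x ^ k * g, h⟩ = 1) :
    MonoidHom.transfer φ x = φ ⟨x, hx⟩ := by
  classical
  have : Fintype (Orb H x) := Fintype.ofFinite _
  have hF : MonoidHom.transfer φ x = ∏ o : Orb H x, F H φ x o := by
    rw [MonoidHom.transfer_eq_prod_quotient_orbitRel_zpowers_quot]
    rfl
  let act := orbAction H x D hDx
  have hfix : ∀ g : G, (Function.minimalPeriod (x • ·) (g : G ⧸ H)) = Function.minimalPeriod (x • ·) (g : G ⧸ H) →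
      g⁻¹ * x ^ (Function.minimalPeriod (x • ·) (g : G ⧸ H)) * g ∈ H := by
    intro g _
    rw [← smul_mk_eq]
    exact pow_smul_eq_iff_minimalPeriod_dvd.2 dvd_rfl
  rw [hF, prod_fixed hD Finset.univ (fun _ _ _ => Finset.mem_univ _)
    (F H φ x) ?_ ?_]
  · -- only the base orbit
    rw [Finset.prod_eq_single (Quotient.mk'' ((1 : G) : G ⧸ H) : Orb H x)]
    · have h1 : Function.minimalPeriod (x • ·) ((1 : G) : G ⧸ H) = 1 := by
        rw [Function.minimalPeriod_eq_one_iff_isFixedPt]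
        exact (smul_mk_eq H x 1).2 (by simpa using hx)
      have h2 : (1 : G)⁻¹ * x ^ 1 * 1 ∈ H := by simpa using hx
      rw [F_mk H φ x 1 h1 h2]
      congr 1
      apply Subtype.ext
      simp
    · intro o ho hne
      rw [Finset.mem_filter] at ho
      obtain ⟨q, rfl⟩ := Quotient.exists_rep o
      obtain ⟨g, rfl⟩ := QuotientGroup.mk_surjective q
      change F H φ x (Quotient.mk'' (g : G ⧸ H)) = 1
      rw [F_mk H φ x g rfl (hfix g rfl)]
      apply hval g
      · intro hgH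
        apply hne
        have : ((g : G) : G ⧸ H) = ((1 : G) : G ⧸ H) := by
          rw [QuotientGroup.eq]; simpa using hgH
        rw [this]
      · intro d hd
        have h1 := ho.2 ⟨d, hd⟩
        have h2 : (Quotient.mk'' (d • (g : G ⧸ H)) : Orb H x) = Quotient.mk'' (g : G ⧸ H) := h1
        obtain ⟨⟨y, hy⟩, hyg⟩ := Quotient.exact h2
        obtain ⟨m, rfl⟩ := mem_zpowers_iff.1 hy
        have hyg' : x ^ m • (g : G ⧸ H) = d • (g : G ⧸ H) := hyg
        refine ⟨-m, ?_⟩
        rw [← smul_mk_eq, mul_smul, ← hyg', ← mul_smul, ← zpow_add,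
          neg_add_cancel, zpow_zero, one_smul]
      · intro j
        rw [← pow_smul_eq_iff_minimalPeriod_dvd, smul_mk_eq]
    · intro hn
      exfalso
      apply hn
      rw [Finset.mem_filter]
      refine ⟨Finset.mem_univ _, ?_⟩
      rintro ⟨d, hd⟩
      show (Quotient.mk'' (d • ((1 : G) : G ⧸ H)) : Orb H x) = Quotient.mk'' ((1 : G) : G ⧸ H)
      rw [(smul_mk_eq H d 1).2 (by simpa using hDH hd)]
  · intro d o _
    obtain ⟨q, rfl⟩ := Quotient.exists_rep o
    obtain ⟨g, rfl⟩ := QuotientGroup.mk_surjective q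
    have h0 : (d • (Quotient.mk'' (g : G ⧸ H) : Orb H x)) = Quotient.mk'' (((d : G) * g : G) : G ⧸ H) := rfl
    change F H φ x (d • (Quotient.mk'' (g : G ⧸ H) : Orb H x)) = F H φ x (Quotient.mk'' (g : G ⧸ H))
    rw [h0]
    have hdx := hDx d d.2
    have h1 : Function.minimalPeriod (x • ·) (((d : G) * g : G) : G ⧸ H) =
        Function.minimalPeriod (x • ·) (g : G ⧸ H) := period_smul hdx (g : G ⧸ H)
    have h3 : ((d : G) * g)⁻¹ * x ^ Function.minimalPeriod (x • ·) (g : G ⧸ H) * ((d : G) * g) =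
        g⁻¹ * x ^ Function.minimalPeriod (x • ·) (g : G ⧸ H) * g := by
      have h4 : (d : G) * x ^ Function.minimalPeriod (x • ·) (g : G ⧸ H) =
          x ^ Function.minimalPeriod (x • ·) (g : G ⧸ H) * d := ((show Commute (d : G) x from hdx).pow_right _).eq
      calc ((d : G) * g)⁻¹ * x ^ Function.minimalPeriod (x • ·) (g : G ⧸ H) * ((d : G) * g)
          = g⁻¹ * ((d : G)⁻¹ * (x ^ Function.minimalPeriod (x • ·) (g : G ⧸ H) * d)) * g := by group
        _ = _ := by rw [← h4, inv_mul_cancel_left]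
    have h5 : ((d : G) * g)⁻¹ * x ^ Function.minimalPeriod (x • ·) (g : G ⧸ H) * ((d : G) * g) ∈ H := by
      rw [h3]; exact hfix g rfl
    rw [F_mk H φ x _ h1 h5, F_mk H φ x g rfl (hfix g rfl)]
    congr 1
    exact Subtype.ext h3
  · intro o _
    exact hsq _ _ _

/-- the same formula for a sign -/
theorem transfer_eq_single [Finite G] (φ : H →* ℤˣ) (x : G) (D : Subgroup G) (hD : IsPGroup 2 D)
    (hDx : ∀ d ∈ D, d * x = x * d) (hx : x ∈ H) (hDH : D ≤ H)
    (hval : ∀ g : G, g ∉ H → (∀ d ∈ D, ∃ m : ℤ, g⁻¹ * (x ^ m * d) * g ∈ H) →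
      ∀ k : ℕ, (∀ j : ℕ, g⁻¹ * x ^ j * g ∈ H ↔ k ∣ j) →
        ∀ h : g⁻¹ * x ^ k * g ∈ H, φ ⟨g⁻¹ * x ^ k * g, h⟩ = 1) :
    MonoidHom.transfer φ x = φ ⟨x, hx⟩ :=
  transfer_eq_single' H φ x D hD hDx hx hDH
    (fun _ _ _ => by rw [pow_two]; exact Int.units_mul_self _) hval

end Cfsg.Agent.OddHalf.Front.OrbitTransfer
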