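import Cfsg.Agent.OddHalf.Front.OfSheet
import Cfsg.Agent.OddHalf.D8.MainE

/-!
# The named statement `MainE.FrontOuter` (helper971)
-/

set_option autoImplicit false

namespace Cfsg.Agent.OddHalf.Front.FrontOuter

open Subgroup Cfsg Cfsg.Agent.OddHalf.Front.FE Cfsg.Agent.OddHalf.D8.Sheet Cfsg.Agent.OddHalf.D8.GlueE
  Cfsg.Agent.OddHalf.D8.Front

universe u

variable {G : Type u} [Group G]

/-- the output of the front end, with or without an outer part -/
theorem out_of_emb (C : Iface.Ctx G) {K : Subgroup G} {t q : G} {z : K} {P : Subgroup K}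
    (h : Emb K t q z P) : Out K t q z P := by
  have hfin : Finite G := C.fin
  obtain ⟨T, F⟩ := OfSheet.facts h
  obtain ⟨-, hQ, S, -, -, ⟨x, hxS, -, -, hxt, hxz⟩, hnc, htH⟩ :=
    CycT.main F (commutator_eq_top C) (index_ne_two C)
  exact ⟨h, hQ, ⟨x, S.isPGroup'.to_le (by rw [zpowers_le]; exact hxS), hxt, hxz⟩, hnc, htH⟩

/-- **FrontOuter** -/
theorem frontOuter : D8.MainE.FrontOuter.{u} := fun _ _ C _ _ _ _ _ h _ => out_of_emb C h

end Cfsg.Agent.OddHalf.Front.FrontOuter
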