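import Cfsg.Agent.OddHalf.Front.FE
import Cfsg.Agent.OddHalf.Front.OrbitTransfer
import Cfsg.Agent.OddHalf.TR
import Cfsg.Agent.TwoFusion.IndexTwo
import Cfsg.Agent.Lib.SylowNormalInf

/-!
# Cyclic `C(K)`, `Z(S_K)` of order 2: the frame, `T` is not Sylow, `|Q| = 2` (helper971)

`Facts K t q z T`: `K` simple, standard at `t`, `Q = ⟨q⟩`, `T` a Sylow 2-subgroup of `C(t)`, `S = T ∩ K`,
`Z(S) = {1, z}`, `|C(t) : QK| ≤ 2`, no 2-element of `C(t) - QK` centralizes `S`, `z` lies in a perfect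
subgroup of `C_K(z)`. Then `TR.Frame t z T` holds, `T` is not a Sylow subgroup of `G` (any `|Q|`, any action
of the outer elements on `Q`), and `|Q| = 2`.
-/

set_option autoImplicit false

namespace Cfsg.Agent.OddHalf.Front.Cyclic

open Subgroup Cfsg.Agent.OddHalf.Front.FE

universe u

variable {G : Type u} [Group G]

/-- the position of the nodes with `Z(S_K)` of order 2 -/
structure Facts (K : Subgroup G) (t q z : G) (T : Subgroup G) : Prop extends Start K t q where
  pT : IsPGroup 2 ↥T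
  tc : ∀ x ∈ T, x * t = t * x
  max : ∀ P : Subgroup G, IsPGroup 2 ↥P → T ≤ P → (∀ x ∈ P, x * t = t * x) → P ≤ T
  z1 : z ≠ 1
  zT : z ∈ T
  zK : z ∈ K
  zS : ∀ x ∈ T, x ∈ K → x * z = z * x
  /-- `Z(S) = {1, z}` -/
  P1 : ∀ y ∈ T, y ∈ K → (∀ x ∈ T, x ∈ K → x * y = y * x) → y = 1 ∨ y = z
  /-- no outer 2-element centralizes `S` -/
  T1s : ∀ y : G, y * t = t * y → IsPGroup 2 ↥(zpowers y) → (∀ x ∈ T, x ∈ K → x * y = y * x) →
    y ∈ zpowers q ⊔ K
  /-- `|C(t) : QK| ≤ 2` -/
  idx : ∀ a b : G, a * t = t * a → b * t = t * b → a ∉ zpowers q ⊔ K → b ∉ zpowers q ⊔ K →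
    a * b⁻¹ ∈ zpowers q ⊔ K
  /-- `z` lies in a perfect subgroup of `C_K(z)` -/
  P2 : ∃ L : Subgroup G, L ≤ K ∧ ⁅L, L⁆ = L ∧ z ∈ L ∧ ∀ x ∈ L, x * z = z * x

/-! ### Elementary facts on `Start0` -/

section Start0

variable {K : Subgroup G} {t q : G}

theorem mem_M (h : Start0 K t q) {y : G} :
    y ∈ zpowers q ⊔ K ↔ ∃ a ∈ zpowers q, ∃ k ∈ K, y = a * k := by
  constructor
  · intro hy
    let M : Subgroup G :=
      { carrier := {y | ∃ a ∈ zpowers q, ∃ k ∈ K, y = a * k}
        one_mem' := ⟨1, one_mem _, 1, one_mem _, by group⟩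
        mul_mem' := by
          rintro _ _ ⟨a, ha, k, hk, rfl⟩ ⟨b, hb, l, hl, rfl⟩
          refine ⟨a * b, mul_mem ha hb, k * l, mul_mem hk hl, ?_⟩
          calc a * k * (b * l) = a * (k * b) * l := by group
            _ = a * (b * k) * l := by rw [h.QK b hb k hk]
            _ = a * b * (k * l) := by group
        inv_mem' := by
          rintro _ ⟨a, ha, k, hk, rfl⟩
          refine ⟨a⁻¹, inv_mem ha, k⁻¹, inv_mem hk, ?_⟩
          rw [mul_inv_rev, h.QK a⁻¹ (inv_mem ha) k⁻¹ (inv_mem hk)] }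
    have h1 : zpowers q ⊔ K ≤ M := by
      rw [sup_le_iff]
      exact ⟨fun a ha => ⟨a, ha, 1, one_mem _, by group⟩, fun k hk => ⟨1, one_mem _, k, hk, by group⟩⟩
    exact h1 hy
  · rintro ⟨a, ha, k, hk, rfl⟩
    exact mul_mem ((le_sup_left : zpowers q ≤ _) ha) ((le_sup_right : K ≤ _) hk)

theorem conjK (h : Start0 K t q) {c : G} (hc : c * t = t * c) {x : G} (hx : x ∈ K) :
    c * x * c⁻¹ ∈ K := (mem_normalizer_iff.1 (h.nK c hc) x).1 hx

theorem conjK' (h : Start0 K t q) {c : G} (hc : c * t = t * c) {x : G} (hx : x ∈ K) :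
    c⁻¹ * x * c ∈ K := by
  have h1 : c⁻¹ * t = t * c⁻¹ := by
    rw [inv_mul_eq_iff_eq_mul, ← mul_assoc, hc, mul_inv_cancel_right]
  have := conjK h h1 hx
  rwa [inv_inv] at this

theorem inv_comm {c t : G} (hc : c * t = t * c) : c⁻¹ * t = t * c⁻¹ := by
  rw [inv_mul_eq_iff_eq_mul, ← mul_assoc, hc, mul_inv_cancel_right]

theorem mul_comm' {a b t : G} (ha : a * t = t * a) (hb : b * t = t * b) : a * b * t = t * (a * b) := by
  rw [mul_assoc, hb, ← mul_assoc, ha, mul_assoc]

/-- `Q` is normal in `C(t)` -/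
theorem conjQ (h : Start0 K t q) {c : G} (hc : c * t = t * c) {y : G} (hy : y ∈ zpowers q) :
    c * y * c⁻¹ ∈ zpowers q := by
  apply h.cK
  · exact mul_comm' (mul_comm' hc (h.Qt y hy)) (inv_comm hc)
  · intro x hx
    have h1 := h.QK y hy _ (conjK' h hc hx)
    calc x * (c * y * c⁻¹) = c * (c⁻¹ * x * c * y) * c⁻¹ := by group
      _ = c * (y * (c⁻¹ * x * c)) * c⁻¹ := by rw [h1]
      _ = c * y * c⁻¹ * x := by group

theorem M_comm (h : Start0 K t q) {y : G} (hy : y ∈ zpowers q ⊔ K) : y * t = t * y := by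
  obtain ⟨a, ha, k, hk, rfl⟩ := (mem_M h).1 hy
  exact mul_comm' (h.Qt a ha) (h.Kt k hk)

theorem M_comm_q (h : Start0 K t q) {y : G} (hy : y ∈ zpowers q ⊔ K) : y * q = q * y := by
  obtain ⟨a, ha, k, hk, rfl⟩ := (mem_M h).1 hy
  apply mul_comm' _ (h.qK k hk)
  obtain ⟨m, rfl⟩ := mem_zpowers_iff.1 ha
  rw [← zpow_add_one, ← zpow_one_add, add_comm]

/-- `QK` is normal in `C(t)` -/
theorem conjM (h : Start0 K t q) {c : G} (hc : c * t = t * c) {y : G} (hy : y ∈ zpowers q ⊔ K) :
    c * y * c⁻¹ ∈ zpowers q ⊔ K := by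
  obtain ⟨a, ha, k, hk, rfl⟩ := (mem_M h).1 hy
  refine (mem_M h).2 ⟨c * a * c⁻¹, conjQ h hc ha, c * k * c⁻¹, conjK h hc hk, by group⟩

/-- every non-trivial element of `Q` has `t` among its powers -/
theorem t_mem [Finite G] (h : Start0 K t q) {y : G} (hy : y ∈ zpowers q) (hy1 : y ≠ 1) :
    t ∈ zpowers y := by
  have hle : zpowers y ≤ zpowers q := by rw [zpowers_le]; exact hy
  obtain ⟨s, hs, hss, hs1⟩ := exists_involution hy1 (h.pQ.to_le hle)
  rw [← h.uniq (hle hs) hss hs1]; exact hs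

end Start0

theorem KQ {K : Subgroup G} {t q : G} (h : Start K t q) {x : G} (hx : x ∈ K) (hq : x ∈ zpowers q) :
    x = 1 := h.cen x hx fun y hy => h.QK x hq y hy

theorem M_unique {K : Subgroup G} {t q : G} (h : Start K t q) {a b k l : G} (ha : a ∈ zpowers q)
    (hb : b ∈ zpowers q) (hk : k ∈ K) (hl : l ∈ K) (e : a * k = b * l) : a = b ∧ k = l := by
  have h1 : b⁻¹ * a = l * k⁻¹ := by
    rw [inv_mul_eq_iff_eq_mul, ← mul_assoc, ← e, mul_inv_cancel_right]
  have h2 : b⁻¹ * a = 1 := KQ h (by rw [h1]; exact mul_mem hl (inv_mem hk)) (mul_mem (inv_mem hb) ha)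
  have h3 : a = b := by rw [inv_mul_eq_one] at h2; exact h2.symm
  refine ⟨h3, ?_⟩
  rw [h3] at e
  exact mul_left_cancel e

namespace Facts

variable {K : Subgroup G} {t q z : G} {T : Subgroup G}

/-- `T` as a Sylow subgroup of `C(t)` -/
theorem exists_sylow (F : Facts K t q z T) :
    ∃ TS : Sylow 2 ↥(centralizer ({t} : Set G)),
      (TS : Subgroup ↥(centralizer ({t} : Set G))) = T.subgroupOf (centralizer ({t} : Set G)) := by
  set C : Subgroup G := centralizer ({t} : Set G) with hC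
  have hTC : T ≤ C := fun x hx => mem_centralizer_singleton_iff.2 (F.tc x hx)
  refine ⟨{ toSubgroup := T.subgroupOf C
            isPGroup' := F.pT.comap_of_injective C.subtype C.subtype_injective
            is_maximal' := ?_ }, rfl⟩
  intro R hR hle
  apply le_antisymm _ hle
  have h1 : R.map C.subtype ≤ T := by
    apply F.max
    · exact hR.map C.subtype
    · intro y hy
      exact ⟨⟨y, hTC hy⟩, hle (by exact hy), rfl⟩
    · rintro _ ⟨y, -, rfl⟩
      exact mem_centralizer_singleton_iff.1 y.2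
  intro y hy
  exact h1 ⟨y, hy, rfl⟩

theorem zpowers_le_T (F : Facts K t q z T) : zpowers q ≤ T := by
  have hle : T ≤ normalizer ((zpowers q : Subgroup G) : Set G) := by
    intro x hx
    have hxt := F.tc x hx
    rw [mem_normalizer_iff]
    intro y
    constructor
    · exact fun hy => conjQ F.toStart0 hxt hy
    · intro hy
      have h1 := conjQ F.toStart0 (inv_comm hxt) hy
      have h2 : x⁻¹ * (x * y * x⁻¹) * x⁻¹⁻¹ = y := by group
      rwa [h2] at h1
  have h1 : IsPGroup 2 ↥(T ⊔ zpowers q : Subgroup G) := F.pT.to_sup_of_normal_right' F.pQ hle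
  have h2 : ∀ x ∈ T ⊔ zpowers q, x * t = t * x := by
    have : T ⊔ zpowers q ≤ centralizer ({t} : Set G) := by
      rw [sup_le_iff]
      exact ⟨fun x hx => mem_centralizer_singleton_iff.2 (F.tc x hx),
        fun x hx => mem_centralizer_singleton_iff.2 (F.Qt x hx)⟩
    intro x hx
    exact mem_centralizer_singleton_iff.1 (this hx)
  exact le_sup_right.trans (F.max _ h1 le_sup_left h2)

theorem tT (F : Facts K t q z T) : t ∈ T := F.zpowers_le_T F.tQ

theorem zz (F : Facts K t q z T) : z * z = 1 := by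
  rcases F.P1 (z * z) (T.mul_mem F.zT F.zT) (K.mul_mem F.zK F.zK) (fun x hx hxK =>
    (mul_comm' (F.zS x hx hxK).symm (F.zS x hx hxK).symm).symm) with h | h
  · exact h
  · exfalso
    exact F.z1 (mul_eq_left.1 h)

/-- `z` is central in `T` -/
theorem zc (F : Facts K t q z T) : ∀ x ∈ T, x * z = z * x := by
  intro x hx
  have hxt := F.tc x hx
  have h1 : x * z * x⁻¹ = 1 ∨ x * z * x⁻¹ = z := by
    apply F.P1
    · exact T.mul_mem (T.mul_mem hx F.zT) (T.inv_mem hx)
    · exact conjK F.toStart0 hxt F.zK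
    · intro y hy hyK
      have h2 := F.zS (x⁻¹ * y * x) (T.mul_mem (T.mul_mem (T.inv_mem hx) hy) hx)
        (conjK' F.toStart0 hxt hyK)
      calc y * (x * z * x⁻¹) = x * (x⁻¹ * y * x * z) * x⁻¹ := by group
        _ = x * (z * (x⁻¹ * y * x)) * x⁻¹ := by rw [h2]
        _ = x * z * x⁻¹ * y := by group
  rcases h1 with h1 | h1
  · exfalso
    apply F.z1
    have : z = x⁻¹ * (x * z * x⁻¹) * x := by group
    rw [this, h1]; group
  · rwa [mul_inv_eq_iff_eq_mul] at h1

theorem z_ne_t (F : Facts K t q z T) : z ≠ t := by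
  rintro rfl
  exact F.t1 (KQ F.toStart F.zK F.tQ)

/-- `S = T ∩ K` is a Sylow subgroup of `K` -/
theorem inf_max [Finite G] (F : Facts K t q z T) {P : Subgroup G} (hP : IsPGroup 2 ↥P) (hPK : P ≤ K)
    (hSP : T ⊓ K ≤ P) : P ≤ T := by
  set C : Subgroup G := centralizer ({t} : Set G) with hC
  obtain ⟨TS, hTS⟩ : ∃ TS : Sylow 2 ↥C, (TS : Subgroup ↥C) = T.subgroupOf C := F.exists_sylow
  have hTC : T ≤ C := fun x hx => mem_centralizer_singleton_iff.2 (F.tc x hx)
  have hKC : K ≤ C := fun x hx => mem_centralizer_singleton_iff.2 (F.Kt x hx)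
  have hn : (K.subgroupOf C).Normal := by
    refine ⟨fun x hx g => ?_⟩
    rw [mem_subgroupOf] at hx ⊢
    exact conjK F.toStart0 (mem_centralizer_singleton_iff.1 g.2) hx
  have h1 := Cfsg.Agent.Lib.SylowNormalInf.not_dvd_relIndex TS (K.subgroupOf C)
  rw [hTS, relIndex_subgroupOf hKC, ← inf_relIndex_right] at h1
  have h2 := relIndex_mul_relIndex (T ⊓ K) P K hSP hPK
  have h3 : ¬ 2 ∣ (T ⊓ K).relIndex P := fun h => h1 (h2 ▸ h.mul_right _)
  have h4 : (T ⊓ K).relIndex P = 1 := by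
    obtain ⟨n, hn⟩ := IsPGroup.iff_card.1 hP
    have h5 : (T ⊓ K).relIndex P ∣ 2 ^ n := by
      rw [← hn]
      exact relIndex_dvd_card _ _
    obtain ⟨m, -, hm⟩ := (Nat.dvd_prime_pow Nat.prime_two).1 h5
    rw [hm]
    rw [hm] at h3
    rcases Nat.eq_zero_or_pos m with h | h
    · rw [h, pow_zero]
    · exact absurd (dvd_pow_self 2 h.ne') h3
  exact (relIndex_eq_one.1 h4).trans inf_le_left

/-- an element of `K` of 2-power order that centralizes `S` is `1` or `z` -/
theorem cent_S_K [Finite G] (F : Facts K t q z T) {k : G} (hk : k ∈ K) (hp : IsPGroup 2 ↥(zpowers k))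
    (hc : ∀ x ∈ T, x ∈ K → x * k = k * x) : k = 1 ∨ k = z := by
  have hkn : zpowers k ≤ normalizer ((T ⊓ K : Subgroup G) : Set G) := by
    rw [zpowers_le, mem_normalizer_iff]
    intro y
    constructor
    · rintro ⟨hy, hyK⟩
      have h1 : k * y * k⁻¹ = y := by rw [← hc y hy hyK]; group
      rw [h1]; exact ⟨hy, hyK⟩
    · rintro ⟨hy, hyK⟩
      have h1 : k * y * k⁻¹ * k = k * (k * y * k⁻¹) := hc _ hy hyK
      have h2 : y = k * y * k⁻¹ := by
        have h3 : k * y = k * (k * y * k⁻¹) := by rw [← h1]; group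
        exact mul_left_cancel h3
      rw [h2]; exact ⟨hy, hyK⟩
  have hSp : IsPGroup 2 ↥(T ⊓ K : Subgroup G) := F.pT.to_le inf_le_left
  have h1 : IsPGroup 2 ↥(zpowers k ⊔ (T ⊓ K) : Subgroup G) := hp.to_sup_of_normal_right' hSp hkn
  have h2 : zpowers k ⊔ (T ⊓ K) ≤ K := by
    rw [sup_le_iff, zpowers_le]
    exact ⟨hk, inf_le_right⟩
  have h3 := F.inf_max h1 h2 le_sup_right
  have h4 : k ∈ T := h3 ((le_sup_left : zpowers k ≤ _) (mem_zpowers k))
  exact F.P1 k h4 hk hc

/-- an involution of `QK` that centralizes `S` -/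
theorem cent_S_M [Finite G] (F : Facts K t q z T) {y : G} (hy : y ∈ zpowers q ⊔ K) (hyy : y * y = 1)
    (hc : ∀ x ∈ T, x ∈ K → x * y = y * x) : y = 1 ∨ y = t ∨ y = z ∨ y = t * z := by
  obtain ⟨a, ha, k, hk, rfl⟩ := (mem_M F.toStart0).1 hy
  have h1 : (a * a) * (k * k) = 1 * 1 := by
    rw [mul_one]
    calc a * a * (k * k) = a * (a * k) * k := by group
      _ = a * (k * a) * k := by rw [F.QK a ha k hk]
      _ = a * k * (a * k) := by group
      _ = 1 := hyy
  obtain ⟨h2, h3⟩ := M_unique F.toStart (mul_mem ha ha) (one_mem _) (mul_mem hk hk) (one_mem _) h1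
  have h4 : k = 1 ∨ k = z := by
    apply F.cent_S_K hk (TR.Frame.isPGroup_zpowers h3)
    intro x hx hxK
    have h5 := hc x hx hxK
    have h6 := F.QK a ha x hxK
    have h7 : a * (x * k) = a * (k * x) := by
      calc a * (x * k) = (a * x) * k := by group
        _ = x * a * k := by rw [h6]
        _ = x * (a * k) := by group
        _ = a * k * x := h5
        _ = a * (k * x) := by group
    exact mul_left_cancel h7
  have h5 : a = 1 ∨ a = t := by
    by_cases h : a = 1
    · exact Or.inl h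
    · exact Or.inr (F.uniq ha h2 h)
  rcases h4 with rfl | rfl <;> rcases h5 with rfl | rfl
  · left; group
  · right; left; group
  · right; right; left; group
  · right; right; right; rfl

theorem cent_S [Finite G] (F : Facts K t q z T) {y : G} (hyt : y * t = t * y) (hyy : y * y = 1)
    (hc : ∀ x ∈ T, x ∈ K → x * y = y * x) : y = 1 ∨ y = t ∨ y = z ∨ y = t * z :=
  F.cent_S_M (F.T1s y hyt (TR.Frame.isPGroup_zpowers hyy) hc) hyy hc

/-- perfect subgroups of `C(t)` lie in `K` -/
theorem perf_le (F : Facts K t q z T) {L : Subgroup G} (hL : ∀ x ∈ L, x * t = t * x)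
    (hp : ⁅L, L⁆ = L) : L ≤ K := by
  have h1 : L ≤ zpowers q ⊔ K := by
    rw [← hp, commutator_le]
    intro a ha b hb
    have hat := hL a ha
    have hbt := hL b hb
    rw [commutatorElement_def]
    by_cases haM : a ∈ zpowers q ⊔ K
    · have : a * b * a⁻¹ * b⁻¹ = a * (b * a⁻¹ * b⁻¹) := by group
      rw [this]
      exact mul_mem haM (conjM F.toStart0 hbt (inv_mem haM))
    by_cases hbM : b ∈ zpowers q ⊔ K
    · exact mul_mem (conjM F.toStart0 hat hbM) (inv_mem hbM)
    · have hb' : b⁻¹ ∉ zpowers q ⊔ K := fun h => hbM (inv_mem_iff.1 h)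
      have ha' : a⁻¹ ∉ zpowers q ⊔ K := fun h => haM (inv_mem_iff.1 h)
      have h2 := F.idx a b⁻¹ hat (inv_comm hbt) haM hb'
      have h3 := F.idx a⁻¹ b (inv_comm hat) hbt ha' hbM
      rw [inv_inv] at h2
      have : a * b * a⁻¹ * b⁻¹ = (a * b) * (a⁻¹ * b⁻¹) := by group
      rw [this]
      exact mul_mem h2 h3
  rw [← hp, commutator_le]
  intro a ha b hb
  obtain ⟨x, hx, k, hk, rfl⟩ := (mem_M F.toStart0).1 (h1 ha)
  obtain ⟨y, hy, l, hl, rfl⟩ := (mem_M F.toStart0).1 (h1 hb)
  rw [commutatorElement_def]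
  have hxy : x * y = y * x := by
    obtain ⟨m, rfl⟩ := mem_zpowers_iff.1 hx
    obtain ⟨n, rfl⟩ := mem_zpowers_iff.1 hy
    rw [← zpow_add, ← zpow_add, add_comm]
  have e : x * k * (y * l) * (x * k)⁻¹ * (y * l)⁻¹ = k * l * k⁻¹ * l⁻¹ := by
    have c1 : k * y = y * k := F.QK y hy k hk
    have c2 : l * x = x * l := F.QK x hx l hl
    have c3 : k * x = x * k := F.QK x hx k hk
    have c4 : l * y = y * l := F.QK y hy l hl
    rw [mul_inv_eq_iff_eq_mul, mul_inv_eq_iff_eq_mul]
    calc x * k * (y * l) = x * (k * y) * l := by group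
      _ = x * (y * k) * l := by rw [c1]
      _ = (x * y) * (k * l) := by group
      _ = (y * x) * (k * l) := by rw [hxy]
      _ = k * l * k⁻¹ * l⁻¹ * (y * l) * (x * k) := by
        have c5 : Commute x y := hxy
        have c1' : Commute k y := c1
        have c2' : Commute l x := c2
        have c3' : Commute k x := c3
        have c4' : Commute l y := c4
        have d1 : Commute y (k * l * k⁻¹ * l⁻¹) :=
          (((c1'.symm.mul_right c4'.symm).mul_right c1'.symm.inv_right).mul_right c4'.symm.inv_right)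
        calc y * x * (k * l) = y * (x * (k * l)) := by group
          _ = y * ((k * l) * x) := by rw [(c3'.symm.mul_right c2'.symm).eq]
          _ = y * (k * l * k⁻¹ * l⁻¹ * (l * k) * x) := by group
          _ = y * (k * l * k⁻¹ * l⁻¹) * (l * (k * x)) := by group
          _ = k * l * k⁻¹ * l⁻¹ * y * (l * (x * k)) := by rw [d1.eq, c3]
          _ = k * l * k⁻¹ * l⁻¹ * (y * l) * (x * k) := by group
  rw [e]
  exact mul_mem (mul_mem (mul_mem hk hl) (inv_mem hk)) (inv_mem hl)

/-- **the frame** -/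
theorem frame [Finite G] (F : Facts K t q z T) : TR.Frame t z T where
  tt := F.tt
  zz := F.zz
  t1 := F.t1
  z1 := F.z1
  ne := F.z_ne_t
  pT := F.pT
  tT := F.tT
  tc := F.tc
  zT := F.zT
  zc := F.zc
  max := F.max
  om := by
    intro y hy hc hyy
    exact F.cent_S (F.tc y hy) hyy fun x hx _ => hc x hx
  iso := by
    intro g ht hz
    rcases hz with hz | hz | hz
    · exfalso
      exact aux F g ht (Or.inl hz)
    · exact hz
    · exfalso
      exact aux F g ht (Or.inr hz)
where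
  aux (F : Facts K t q z T) (g : G)
      (ht : g * t * g⁻¹ = t ∨ g * t * g⁻¹ = z ∨ g * t * g⁻¹ = t * z)
      (hz : g * z * g⁻¹ = t ∨ g * z * g⁻¹ = t * z) : False := by
    have htz : t * z = z * t := F.zc t F.tT
    have hinj : ∀ c d : G, g * c * g⁻¹ = g * d * g⁻¹ → c = d := fun c d h =>
      mul_left_cancel (mul_right_cancel h)
    obtain ⟨L, hLK, hLp, hzL, hLz⟩ := F.P2
    set L' : Subgroup G := L.map (MulAut.conj g).toMonoidHom with hL'
    have hL'p : ⁅L', L'⁆ = L' := by rw [hL', ← map_commutator, hLp]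
    have hzL' : g * z * g⁻¹ ∈ L' := ⟨z, hzL, rfl⟩
    -- `L'` commutes with the images of `t` and `z`
    have h1 : ∀ x ∈ L', x * (g * t * g⁻¹) = g * t * g⁻¹ * x ∧
        x * (g * z * g⁻¹) = g * z * g⁻¹ * x := by
      rintro _ ⟨y, hy, rfl⟩
      have hyt := F.Kt y (hLK hy)
      have hyz := hLz y hy
      refine ⟨?_, ?_⟩
      · show g * y * g⁻¹ * (g * t * g⁻¹) = g * t * g⁻¹ * (g * y * g⁻¹)
        calc g * y * g⁻¹ * (g * t * g⁻¹) = g * (y * t) * g⁻¹ := by group
          _ = g * (t * y) * g⁻¹ := by rw [hyt]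
          _ = _ := by group
      · show g * y * g⁻¹ * (g * z * g⁻¹) = g * z * g⁻¹ * (g * y * g⁻¹)
        calc g * y * g⁻¹ * (g * z * g⁻¹) = g * (y * z) * g⁻¹ := by group
          _ = g * (z * y) * g⁻¹ := by rw [hyz]
          _ = _ := by group
    have htt := F.tt
    have hzz := F.zz
    -- so `L'` commutes with `t`
    have h2 : ∀ x ∈ L', x * t = t * x := by
      intro x hx
      obtain ⟨ha, hb⟩ := h1 x hx
      rcases hz with hz | hz
      · rwa [hz] at hb
      · rcases ht with ht | ht | ht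
        · rwa [ht] at ha
        · rw [ht] at ha
          rw [hz] at hb
          have h3 : x * (t * z * z) = t * z * z * x := by
            calc x * (t * z * z) = x * (t * z) * z := by group
              _ = t * z * x * z := by rw [hb]
              _ = t * z * (x * z) := by group
              _ = t * z * (z * x) := by rw [ha]
              _ = t * z * z * x := by group
          rwa [mul_assoc t z z, hzz, mul_one] at h3
        · exfalso
          exact F.z_ne_t (hinj _ _ (hz.trans ht.symm))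
    have h3 := F.perf_le h2 hL'p
    have h4 := h3 hzL'
    rcases hz with hz | hz
    · rw [hz] at h4
      exact F.t1 (KQ F.toStart h4 F.tQ)
    · rw [hz] at h4
      have h5 : t ∈ K := by
        have : t = t * z * z⁻¹ := by group
        rw [this]
        exact mul_mem h4 (inv_mem F.zK)
      exact F.t1 (KQ F.toStart h5 F.tQ)

end Facts

end Cfsg.Agent.OddHalf.Front.Cyclic
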