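import Cfsg.Agent.OddHalf.Front.Cyclic
import Cfsg.Agent.OddHalf.Clean
import Cfsg.Agent.StdSpSix.TR

/-!
# Cyclic `C(K)`, `Z(S_K)` of order 2, general outer part (helper971)

As `Front.Cyclic` / `Front.NotSylow`, but only `|T : T ∩ QK| ≤ 2` is assumed (the outer part of `C(t)` may have
odd order elements), and the isolation of `z` in `⟨t, z⟩` is a hypothesis.
-/

set_option autoImplicit false

namespace Cfsg.Agent.OddHalf.Front.CycT

open Subgroup Cfsg.Agent.OddHalf.Front.FE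
open Cfsg.Agent.OddHalf.Front.Cyclic hiding Facts

universe u

variable {G : Type u} [Group G]

/-- the position of the nodes with `Z(S_K)` of order 2 -/
structure Facts (K : Subgroup G) (t q z : G) (T : Subgroup G) : Prop extends Start K t q where
  pT : IsPGroup 2 ↥T
  tc : ∀ x ∈ T, x * t = t * x
  max : ∀ P : Subgroup G, IsPGroup 2 ↥P → T ≤ P → (∀ x ∈ P, x * t = t * x) → P ≤ T
  z1 : z ≠ 1
  zT : z ∈ T
  zK : z ∈ K
  zS : ∀ x ∈ T, x ∈ K → x * z = z * x
  /-- `Z(S) = {1, z}` -/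
  P1 : ∀ y ∈ T, y ∈ K → (∀ x ∈ T, x ∈ K → x * y = y * x) → y = 1 ∨ y = z
  /-- no outer 2-element centralizes `S` -/
  T1s : ∀ y : G, y * t = t * y → IsPGroup 2 ↥(zpowers y) → (∀ x ∈ T, x ∈ K → x * y = y * x) →
    y ∈ zpowers q ⊔ K
  /-- `|T : T ∩ QK| ≤ 2` -/
  idx : ∀ a ∈ T, ∀ b ∈ T, a ∉ zpowers q ⊔ K → b ∉ zpowers q ⊔ K → a * b⁻¹ ∈ zpowers q ⊔ K
  /-- `z` is isolated in `⟨t, z⟩` -/
  iso : ∀ g : G, (g * t * g⁻¹ = t ∨ g * t * g⁻¹ = z ∨ g * t * g⁻¹ = t * z) →
    (g * z * g⁻¹ = t ∨ g * z * g⁻¹ = z ∨ g * z * g⁻¹ = t * z) → g * z * g⁻¹ = z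

namespace Facts

variable {K : Subgroup G} {t q z : G} {T : Subgroup G}

/-- `T` as a Sylow subgroup of `C(t)` -/
theorem exists_sylow (F : Facts K t q z T) :
    ∃ TS : Sylow 2 ↥(centralizer ({t} : Set G)),
      (TS : Subgroup ↥(centralizer ({t} : Set G))) = T.subgroupOf (centralizer ({t} : Set G)) := by
  set C : Subgroup G := centralizer ({t} : Set G) with hC
  have hTC : T ≤ C := fun x hx => mem_centralizer_singleton_iff.2 (F.tc x hx)
  refine ⟨{ toSubgroup := T.subgroupOf C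
            isPGroup' := F.pT.comap_of_injective C.subtype C.subtype_injective
            is_maximal' := ?_ }, rfl⟩
  intro R hR hle
  apply le_antisymm _ hle
  have h1 : R.map C.subtype ≤ T := by
    apply F.max
    · exact hR.map C.subtype
    · intro y hy
      exact ⟨⟨y, hTC hy⟩, hle (by exact hy), rfl⟩
    · rintro _ ⟨y, -, rfl⟩
      exact mem_centralizer_singleton_iff.1 y.2
  intro y hy
  exact h1 ⟨y, hy, rfl⟩

theorem zpowers_le_T (F : Facts K t q z T) : zpowers q ≤ T := by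
  have hle : T ≤ normalizer ((zpowers q : Subgroup G) : Set G) := by
    intro x hx
    have hxt := F.tc x hx
    rw [mem_normalizer_iff]
    intro y
    constructor
    · exact fun hy => conjQ F.toStart0 hxt hy
    · intro hy
      have h1 := conjQ F.toStart0 (inv_comm hxt) hy
      have h2 : x⁻¹ * (x * y * x⁻¹) * x⁻¹⁻¹ = y := by group
      rwa [h2] at h1
  have h1 : IsPGroup 2 ↥(T ⊔ zpowers q : Subgroup G) := F.pT.to_sup_of_normal_right' F.pQ hle
  have h2 : ∀ x ∈ T ⊔ zpowers q, x * t = t * x := by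
    have : T ⊔ zpowers q ≤ centralizer ({t} : Set G) := by
      rw [sup_le_iff]
      exact ⟨fun x hx => mem_centralizer_singleton_iff.2 (F.tc x hx),
        fun x hx => mem_centralizer_singleton_iff.2 (F.Qt x hx)⟩
    intro x hx
    exact mem_centralizer_singleton_iff.1 (this hx)
  exact le_sup_right.trans (F.max _ h1 le_sup_left h2)

theorem tT (F : Facts K t q z T) : t ∈ T := F.zpowers_le_T F.tQ

theorem zz (F : Facts K t q z T) : z * z = 1 := by
  rcases F.P1 (z * z) (T.mul_mem F.zT F.zT) (K.mul_mem F.zK F.zK) (fun x hx hxK =>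
    (mul_comm' (F.zS x hx hxK).symm (F.zS x hx hxK).symm).symm) with h | h
  · exact h
  · exfalso
    exact F.z1 (mul_eq_left.1 h)

/-- `z` is central in `T` -/
theorem zc (F : Facts K t q z T) : ∀ x ∈ T, x * z = z * x := by
  intro x hx
  have hxt := F.tc x hx
  have h1 : x * z * x⁻¹ = 1 ∨ x * z * x⁻¹ = z := by
    apply F.P1
    · exact T.mul_mem (T.mul_mem hx F.zT) (T.inv_mem hx)
    · exact conjK F.toStart0 hxt F.zK
    · intro y hy hyK
      have h2 := F.zS (x⁻¹ * y * x) (T.mul_mem (T.mul_mem (T.inv_mem hx) hy) hx)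
        (conjK' F.toStart0 hxt hyK)
      calc y * (x * z * x⁻¹) = x * (x⁻¹ * y * x * z) * x⁻¹ := by group
        _ = x * (z * (x⁻¹ * y * x)) * x⁻¹ := by rw [h2]
        _ = x * z * x⁻¹ * y := by group
  rcases h1 with h1 | h1
  · exfalso
    apply F.z1
    have : z = x⁻¹ * (x * z * x⁻¹) * x := by group
    rw [this, h1]; group
  · rwa [mul_inv_eq_iff_eq_mul] at h1

theorem z_ne_t (F : Facts K t q z T) : z ≠ t := by
  rintro rfl
  exact F.t1 (KQ F.toStart F.zK F.tQ)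

/-- `S = T ∩ K` is a Sylow subgroup of `K` -/
theorem inf_max [Finite G] (F : Facts K t q z T) {P : Subgroup G} (hP : IsPGroup 2 ↥P) (hPK : P ≤ K)
    (hSP : T ⊓ K ≤ P) : P ≤ T := by
  set C : Subgroup G := centralizer ({t} : Set G) with hC
  obtain ⟨TS, hTS⟩ : ∃ TS : Sylow 2 ↥C, (TS : Subgroup ↥C) = T.subgroupOf C := F.exists_sylow
  have hTC : T ≤ C := fun x hx => mem_centralizer_singleton_iff.2 (F.tc x hx)
  have hKC : K ≤ C := fun x hx => mem_centralizer_singleton_iff.2 (F.Kt x hx)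
  have hn : (K.subgroupOf C).Normal := by
    refine ⟨fun x hx g => ?_⟩
    rw [mem_subgroupOf] at hx ⊢
    exact conjK F.toStart0 (mem_centralizer_singleton_iff.1 g.2) hx
  have h1 := Cfsg.Agent.Lib.SylowNormalInf.not_dvd_relIndex TS (K.subgroupOf C)
  rw [hTS, relIndex_subgroupOf hKC, ← inf_relIndex_right] at h1
  have h2 := relIndex_mul_relIndex (T ⊓ K) P K hSP hPK
  have h3 : ¬ 2 ∣ (T ⊓ K).relIndex P := fun h => h1 (h2 ▸ h.mul_right _)
  have h4 : (T ⊓ K).relIndex P = 1 := by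
    obtain ⟨n, hn⟩ := IsPGroup.iff_card.1 hP
    have h5 : (T ⊓ K).relIndex P ∣ 2 ^ n := by
      rw [← hn]
      exact relIndex_dvd_card _ _
    obtain ⟨m, -, hm⟩ := (Nat.dvd_prime_pow Nat.prime_two).1 h5
    rw [hm]
    rw [hm] at h3
    rcases Nat.eq_zero_or_pos m with h | h
    · rw [h, pow_zero]
    · exact absurd (dvd_pow_self 2 h.ne') h3
  exact (relIndex_eq_one.1 h4).trans inf_le_left

/-- an element of `K` of 2-power order that centralizes `S` is `1` or `z` -/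
theorem cent_S_K [Finite G] (F : Facts K t q z T) {k : G} (hk : k ∈ K) (hp : IsPGroup 2 ↥(zpowers k))
    (hc : ∀ x ∈ T, x ∈ K → x * k = k * x) : k = 1 ∨ k = z := by
  have hkn : zpowers k ≤ normalizer ((T ⊓ K : Subgroup G) : Set G) := by
    rw [zpowers_le, mem_normalizer_iff]
    intro y
    constructor
    · rintro ⟨hy, hyK⟩
      have h1 : k * y * k⁻¹ = y := by rw [← hc y hy hyK]; group
      rw [h1]; exact ⟨hy, hyK⟩
    · rintro ⟨hy, hyK⟩
      have h1 : k * y * k⁻¹ * k = k * (k * y * k⁻¹) := hc _ hy hyK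
      have h2 : y = k * y * k⁻¹ := by
        have h3 : k * y = k * (k * y * k⁻¹) := by rw [← h1]; group
        exact mul_left_cancel h3
      rw [h2]; exact ⟨hy, hyK⟩
  have hSp : IsPGroup 2 ↥(T ⊓ K : Subgroup G) := F.pT.to_le inf_le_left
  have h1 : IsPGroup 2 ↥(zpowers k ⊔ (T ⊓ K) : Subgroup G) := hp.to_sup_of_normal_right' hSp hkn
  have h2 : zpowers k ⊔ (T ⊓ K) ≤ K := by
    rw [sup_le_iff, zpowers_le]
    exact ⟨hk, inf_le_right⟩
  have h3 := F.inf_max h1 h2 le_sup_right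
  have h4 : k ∈ T := h3 ((le_sup_left : zpowers k ≤ _) (mem_zpowers k))
  exact F.P1 k h4 hk hc

/-- an involution of `QK` that centralizes `S` -/
theorem cent_S_M [Finite G] (F : Facts K t q z T) {y : G} (hy : y ∈ zpowers q ⊔ K) (hyy : y * y = 1)
    (hc : ∀ x ∈ T, x ∈ K → x * y = y * x) : y = 1 ∨ y = t ∨ y = z ∨ y = t * z := by
  obtain ⟨a, ha, k, hk, rfl⟩ := (mem_M F.toStart0).1 hy
  have h1 : (a * a) * (k * k) = 1 * 1 := by
    rw [mul_one]
    calc a * a * (k * k) = a * (a * k) * k := by group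
      _ = a * (k * a) * k := by rw [F.QK a ha k hk]
      _ = a * k * (a * k) := by group
      _ = 1 := hyy
  obtain ⟨h2, h3⟩ := M_unique F.toStart (mul_mem ha ha) (one_mem _) (mul_mem hk hk) (one_mem _) h1
  have h4 : k = 1 ∨ k = z := by
    apply F.cent_S_K hk (TR.Frame.isPGroup_zpowers h3)
    intro x hx hxK
    have h5 := hc x hx hxK
    have h6 := F.QK a ha x hxK
    have h7 : a * (x * k) = a * (k * x) := by
      calc a * (x * k) = (a * x) * k := by group
        _ = x * a * k := by rw [h6]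
        _ = x * (a * k) := by group
        _ = a * k * x := h5
        _ = a * (k * x) := by group
    exact mul_left_cancel h7
  have h5 : a = 1 ∨ a = t := by
    by_cases h : a = 1
    · exact Or.inl h
    · exact Or.inr (F.uniq ha h2 h)
  rcases h4 with rfl | rfl <;> rcases h5 with rfl | rfl
  · left; group
  · right; left; group
  · right; right; left; group
  · right; right; right; rfl

theorem cent_S [Finite G] (F : Facts K t q z T) {y : G} (hyt : y * t = t * y) (hyy : y * y = 1)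
    (hc : ∀ x ∈ T, x ∈ K → x * y = y * x) : y = 1 ∨ y = t ∨ y = z ∨ y = t * z :=
  F.cent_S_M (F.T1s y hyt (TR.Frame.isPGroup_zpowers hyy) hc) hyy hc

/-- **the frame** -/
theorem frame [Finite G] (F : Facts K t q z T) : TR.Frame t z T where
  tt := F.tt
  zz := F.zz
  t1 := F.t1
  z1 := F.z1
  ne := F.z_ne_t
  pT := F.pT
  tT := F.tT
  tc := F.tc
  zT := F.zT
  zc := F.zc
  max := F.max
  om := by
    intro y hy hc hyy
    exact F.cent_S (F.tc y hy) hyy fun x hx _ => hc x hx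
  iso := F.iso

end Facts

/-- a subgroup of index 2 avoiding `q`, over a subgroup with elementary abelian quotient -/
theorem exists_index_two {X : Type*} [Group X] [Finite X] {N0 : Subgroup X} {q : X}
    (hsq : ∀ c : X, c * c ∈ N0) (hcm : ∀ c d : X, c * d * c⁻¹ * d⁻¹ ∈ N0) (hq : q ∉ N0) :
    ∃ N : Subgroup X, N.index = 2 ∧ q ∉ N ∧ N0 ≤ N := by
  have hfin : ({N : Subgroup X | N0 ≤ N ∧ q ∉ N}).Finite := Set.toFinite _
  obtain ⟨N, hN0, hN⟩ := hfin.exists_le_maximal (a := N0) ⟨le_rfl, hq⟩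
  obtain ⟨⟨-, hqN⟩, hmax⟩ := hN
  have hnorm : ∀ c y : X, y ∈ N → c * y * c⁻¹ ∈ N := by
    intro c y hy
    have : c * y * c⁻¹ = c * y * c⁻¹ * y⁻¹ * y := by group
    rw [this]
    exact mul_mem (hN0 (hcm c y)) hy
  have key : ∀ x : X, x ∉ N → x⁻¹ * q ∈ N := by
    intro x hx
    have hxx : x * x ∈ N := hN0 (hsq x)
    let N' : Subgroup X :=
      { carrier := {y | y ∈ N ∨ x⁻¹ * y ∈ N}
        one_mem' := Or.inl (one_mem _)
        mul_mem' := by
          rintro a b (ha | ha) (hb | hb)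
          · exact Or.inl (mul_mem ha hb)
          · right
            have : x⁻¹ * (a * b) = (x⁻¹ * a * x⁻¹⁻¹) * (x⁻¹ * b) := by group
            rw [this]
            exact mul_mem (hnorm _ _ ha) hb
          · right
            have : x⁻¹ * (a * b) = x⁻¹ * a * b := by group
            rw [this]; exact mul_mem ha hb
          · left
            have : a * b = (x * x) * (x⁻¹ * (x⁻¹ * a) * x⁻¹⁻¹) * (x⁻¹ * b) := by group
            rw [this]
            exact mul_mem (mul_mem hxx (hnorm _ _ ha)) hb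
        inv_mem' := by
          rintro a (ha | ha)
          · exact Or.inl (inv_mem ha)
          · right
            have : x⁻¹ * a⁻¹ = (x⁻¹ * (x⁻¹ * a)⁻¹ * x⁻¹⁻¹) * (x * x)⁻¹ := by group
            rw [this]
            exact mul_mem (hnorm _ _ (inv_mem ha)) (inv_mem hxx) }
    have h1 : N ≤ N' := fun y hy => Or.inl hy
    have h2 : q ∈ N' := by
      by_contra h
      have h3 := hmax (show N' ∈ {N : Subgroup X | N0 ≤ N ∧ q ∉ N} from ⟨hN0.trans h1, h⟩) h1
      apply hx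
      apply h3
      right
      rw [inv_mul_cancel]; exact one_mem _
    rcases h2 with h2 | h2
    · exact absurd h2 hqN
    · exact h2
  refine ⟨N, ?_, hqN, hN0⟩
  rw [index_eq_two_iff]
  refine ⟨q, fun b => ?_⟩
  by_cases hb : b ∈ N
  · right
    refine ⟨hb, fun h => hqN ?_⟩
    have : q = b⁻¹ * (b * q) := by group
    rw [this]; exact mul_mem (inv_mem hb) h
  · left
    refine ⟨?_, hb⟩
    have : b * q = b * b * (b⁻¹ * q) := by group
    rw [this]
    exact mul_mem (hN0 (hsq b)) (key b hb)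

variable {K : Subgroup G} {t q z : G} {T : Subgroup G}

/-- `g⁻¹ y g ∈ C(t)` iff `y` commutes with `g t g⁻¹` -/
theorem mem_C {t g y : G} : g⁻¹ * y * g ∈ centralizer ({t} : Set G) ↔
    y * (g * t * g⁻¹) = g * t * g⁻¹ * y := by
  rw [mem_centralizer_singleton_iff]
  constructor
  · intro h
    calc y * (g * t * g⁻¹) = g * (g⁻¹ * y * g * t) * g⁻¹ := by group
      _ = g * (t * (g⁻¹ * y * g)) * g⁻¹ := by rw [h]
      _ = g * t * g⁻¹ * y := by group
  · intro h
    calc g⁻¹ * y * g * t = g⁻¹ * (y * (g * t * g⁻¹)) * g := by group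
      _ = g⁻¹ * (g * t * g⁻¹ * y) * g := by rw [h]
      _ = t * (g⁻¹ * y * g) := by group

/-- if `T` is a Sylow subgroup of `G` then `N(T)` centralizes `t` -/
theorem no_swap [Finite G] (F : Facts K t q z T) (S : Sylow 2 G) (hST : (S : Subgroup G) = T) {g : G}
    (hgN : g ∈ normalizer (T : Set G)) : g * t * g⁻¹ = t := by
  have Fr := F.frame
  have hmem : ∀ y, y ∈ (S : Subgroup G) → y ∈ T := by
    intro y hy
    rwa [hST] at hy
  obtain ⟨hz, h1 | h1⟩ := Fr.act hgN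
  · exact h1
  · exfalso
    obtain ⟨k, m, hm, hk⟩ := Nat.exists_eq_two_pow_mul_odd (orderOf_pos g).ne'
    set x := g ^ m with hx
    have hxp : IsPGroup 2 (zpowers x) := by
      apply IsPGroup.of_card (n := k)
      rw [Nat.card_zpowers, hx, orderOf_pow, hk, Nat.gcd_mul_left_left,
        Nat.mul_div_cancel _ hm.pos]
    have hxN : x ∈ normalizer (T : Set G) := pow_mem hgN m
    have hxT : x ∈ T := by
      apply hmem
      have h2 : IsPGroup 2 ((zpowers x ⊔ T : Subgroup G)) :=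
        hxp.to_sup_of_normal_right' F.pT (by rw [zpowers_le]; exact hxN)
      have h3 := S.is_maximal' h2 (by rw [hST]; exact le_sup_right)
      show x ∈ (S : Subgroup G)
      rw [← h3]
      exact (le_sup_left : zpowers x ≤ _) (mem_zpowers x)
    have hxt := F.tc x hxT
    have hg2t : Commute (g * g) t := by
      show g * g * t = t * (g * g)
      rw [← mul_inv_eq_iff_eq_mul]
      calc g * g * t * (g * g)⁻¹ = g * (g * t * g⁻¹) * g⁻¹ := by group
        _ = g * (t * z) * g⁻¹ := by rw [h1]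
        _ = (g * t * g⁻¹) * (g * z * g⁻¹) := by group
        _ = t := by rw [h1, hz, mul_assoc, F.zz, mul_one]
    obtain ⟨j, hj⟩ := hm
    have hx' : x = (g * g) ^ j * g := by
      rw [hx, hj, pow_succ, pow_mul, pow_two]
    have h4 : Commute ((g * g) ^ j) t := hg2t.pow_left j
    have h5 : Commute ((g * g) ^ j * g) t := by
      rw [← hx']; exact hxt
    have h6 : Commute g t := by
      have := h4.inv_left.mul_left h5
      rwa [inv_mul_cancel_left] at this
    have h7 : g * t * g⁻¹ = t := by rw [h6.eq]; group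
    rw [h7] at h1
    exact F.z1 (mul_eq_left.1 h1.symm)

/-- if `T` is a Sylow subgroup of `G`, then `t` is the only conjugate of `t` commuting with `T` -/
theorem burn [Finite G] (F : Facts K t q z T) (S : Sylow 2 G) (hST : (S : Subgroup G) = T) {g : G}
    (hg : ∀ x ∈ T, x * (g * t * g⁻¹) = g * t * g⁻¹ * x) : g * t * g⁻¹ = t := by
  have hmem : ∀ y, y ∈ (S : Subgroup G) → y ∈ T := by
    intro y hy
    rwa [hST] at hy
  have h1 : t ∈ centralizer ((S : Subgroup G) : Set G) :=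
    mem_centralizer_iff.2 fun x hx => F.tc x (hmem x hx)
  have h2 : g⁻¹⁻¹ * t * g⁻¹ ∈ centralizer ((S : Subgroup G) : Set G) := by
    rw [inv_inv]
    exact mem_centralizer_iff.2 fun x hx => hg x (hmem x hx)
  obtain ⟨n, hn, hnt⟩ := S.conj_eq_normalizer_conj_of_mem_centralizer t g⁻¹ h1 h2
  rw [inv_inv] at hnt
  rw [hnt]
  have hn' : n⁻¹ ∈ normalizer (T : Set G) := by
    have h3 : n⁻¹ ∈ normalizer ((S : Subgroup G) : Set G) := inv_mem hn
    rwa [hST] at h3
  have h4 := no_swap F S hST hn'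
  rwa [inv_inv] at h4

/-- in case B an element of `T` commuting with `q` lies in `QK` -/
theorem mem_of_comm (F : Facts K t q z T) (hB : (⟨t, F.tT⟩ : ↥T) ∈ commutator ↥T) {c : G}
    (hc : c ∈ T) (hcq : c * q = q * c) : c ∈ zpowers q ⊔ K := by
  by_contra hcM
  -- `q` is central in `T`
  have hq : ∀ x ∈ T, x * q = q * x := by
    intro x hx
    by_cases hxM : x ∈ zpowers q ⊔ K
    · exact M_comm_q F.toStart0 hxM
    · have h1 := M_comm_q F.toStart0 (F.idx x hx c hc hxM hcM)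
      have h2 := mul_comm' h1 hcq
      rwa [inv_mul_cancel_right] at h2
  have hQ : ∀ a ∈ zpowers q, ∀ x ∈ T, x * a = a * x := by
    intro a ha x hx
    obtain ⟨m, rfl⟩ := mem_zpowers_iff.1 ha
    exact (show Commute x q from hq x hx).zpow_right m
  have hM : ∀ x ∈ T, x ∈ zpowers q ⊔ K → ∀ y ∈ T, x * y * x⁻¹ * y⁻¹ ∈ K := by
    intro x hxT hx y hyT
    obtain ⟨a, ha, k, hk, rfl⟩ := (mem_M F.toStart0).1 hx
    have hkT : k ∈ T := by
      have : k = a⁻¹ * (a * k) := by group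
      rw [this]
      exact mul_mem (inv_mem (F.zpowers_le_T ha)) hxT
    have h1 : a * k * y * (a * k)⁻¹ * y⁻¹ = k * (y * k⁻¹ * y⁻¹) := by
      have h2 : a⁻¹ * y⁻¹ = y⁻¹ * a⁻¹ := (hQ a⁻¹ (inv_mem ha) y⁻¹ (inv_mem hyT)).symm
      have h3 : k * y * k⁻¹ * y⁻¹ * a⁻¹ = a⁻¹ * (k * y * k⁻¹ * y⁻¹) := by
        apply hQ a⁻¹ (inv_mem ha)
        exact mul_mem (mul_mem (mul_mem hkT hyT) (inv_mem hkT)) (inv_mem hyT)
      calc a * k * y * (a * k)⁻¹ * y⁻¹ = a * k * y * k⁻¹ * (a⁻¹ * y⁻¹) := by group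
        _ = a * (k * y * k⁻¹ * y⁻¹ * a⁻¹) := by rw [h2]; group
        _ = a * (a⁻¹ * (k * y * k⁻¹ * y⁻¹)) := by rw [h3]
        _ = k * (y * k⁻¹ * y⁻¹) := by group
    rw [h1]
    exact mul_mem hk (conjK F.toStart0 (F.tc y hyT) (inv_mem hk))
  have hcomm : ∀ x ∈ T, ∀ y ∈ T, x * y * x⁻¹ * y⁻¹ ∈ K := by
    intro x hx y hy
    by_cases hxM : x ∈ zpowers q ⊔ K
    · exact hM x hx hxM y hy
    by_cases hyM : y ∈ zpowers q ⊔ K
    · have h1 := inv_mem (hM y hy hyM x hx)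
      have : (y * x * y⁻¹ * x⁻¹)⁻¹ = x * y * x⁻¹ * y⁻¹ := by group
      rwa [this] at h1
    · have h1 := hM _ (mul_mem hx (inv_mem hy)) (F.idx x hx y hy hxM hyM) y hy
      have : x * y⁻¹ * y * (x * y⁻¹)⁻¹ * y⁻¹ = x * y * x⁻¹ * y⁻¹ := by group
      rwa [this] at h1
  have hle : commutator ↥T ≤ K.subgroupOf T := by
    rw [commutator_def, commutator_le]
    rintro ⟨x, hx⟩ - ⟨y, hy⟩ -
    rw [mem_subgroupOf]
    exact hcomm x hx y hy
  have h1 : t ∈ K := mem_subgroupOf.1 (hle hB)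
  exact F.t1 (KQ F.toStart h1 F.tQ)

/-! ### The subgroup `⟨q²⟩K` -/

theorem mem_sup_comm {A K : Subgroup G} (hc : ∀ a ∈ A, ∀ k ∈ K, k * a = a * k) {y : G} :
    y ∈ A ⊔ K ↔ ∃ a ∈ A, ∃ k ∈ K, y = a * k := by
  constructor
  · intro hy
    let M : Subgroup G :=
      { carrier := {y | ∃ a ∈ A, ∃ k ∈ K, y = a * k}
        one_mem' := ⟨1, one_mem _, 1, one_mem _, by group⟩
        mul_mem' := by
          rintro _ _ ⟨a, ha, k, hk, rfl⟩ ⟨b, hb, l, hl, rfl⟩
          refine ⟨a * b, mul_mem ha hb, k * l, mul_mem hk hl, ?_⟩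
          calc a * k * (b * l) = a * (k * b) * l := by group
            _ = a * (b * k) * l := by rw [hc b hb k hk]
            _ = a * b * (k * l) := by group
        inv_mem' := by
          rintro _ ⟨a, ha, k, hk, rfl⟩
          refine ⟨a⁻¹, inv_mem ha, k⁻¹, inv_mem hk, ?_⟩
          rw [mul_inv_rev, hc a⁻¹ (inv_mem ha) k⁻¹ (inv_mem hk)] }
    have h1 : A ⊔ K ≤ M := by
      rw [sup_le_iff]
      exact ⟨fun a ha => ⟨a, ha, 1, one_mem _, by group⟩, fun k hk => ⟨1, one_mem _, k, hk, by group⟩⟩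
    exact h1 hy
  · rintro ⟨a, ha, k, hk, rfl⟩
    exact mul_mem ((le_sup_left : A ≤ _) ha) ((le_sup_right : K ≤ _) hk)

theorem Q2_le : zpowers (q ^ 2) ≤ zpowers q := by
  rw [zpowers_le]; exact pow_mem (mem_zpowers q) 2

theorem sq_mem_Q2 {a : G} (ha : a ∈ zpowers q) : a * a ∈ zpowers (q ^ 2) := by
  obtain ⟨i, rfl⟩ := mem_zpowers_iff.1 ha
  refine mem_zpowers_iff.2 ⟨i, ?_⟩
  rw [← zpow_natCast q 2, ← zpow_mul, ← zpow_add]
  congr 1
  push_cast
  ring

theorem Q2_or {a : G} (ha : a ∈ zpowers q) : a ∈ zpowers (q ^ 2) ∨ a * q⁻¹ ∈ zpowers (q ^ 2) := by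
  obtain ⟨i, rfl⟩ := mem_zpowers_iff.1 ha
  rcases Int.even_or_odd' i with ⟨j, hj | hj⟩
  · left
    refine mem_zpowers_iff.2 ⟨j, ?_⟩
    rw [← zpow_natCast q 2, ← zpow_mul, hj]
    rfl
  · right
    refine mem_zpowers_iff.2 ⟨j, ?_⟩
    rw [← zpow_natCast q 2, ← zpow_mul, hj, zpow_add_one, mul_inv_cancel_right]
    rfl

theorem q_notMem_Q2 [Finite G] (h : Start0 K t q) : q ∉ zpowers (q ^ 2) := by
  intro hq
  obtain ⟨n, hn⟩ := IsPGroup.iff_card.1 h.pQ
  rw [Nat.card_zpowers] at hn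
  have hq1 : q ≠ 1 := by
    rintro rfl
    have := h.tQ
    rw [zpowers_one_eq_bot, mem_bot] at this
    exact h.t1 this
  have h1 : orderOf (q ^ 2) = orderOf q := by
    have h2 : zpowers (q ^ 2) = zpowers q := by
      apply le_antisymm Q2_le
      rw [zpowers_le]; exact hq
    rw [← Nat.card_zpowers, ← Nat.card_zpowers, h2]
  rw [orderOf_pow, hn] at h1
  have hn0 : n ≠ 0 := by
    rintro rfl
    rw [pow_zero, orderOf_eq_one_iff] at hn
    exact hq1 hn
  obtain ⟨m, rfl⟩ := Nat.exists_eq_succ_of_ne_zero hn0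
  have h3 : (2 ^ m.succ).gcd 2 = 2 := by
    apply Nat.gcd_eq_right
    exact dvd_pow_self 2 (Nat.succ_ne_zero m)
  rw [h3, pow_succ, Nat.mul_div_cancel _ two_pos] at h1
  have := pow_pos (show 0 < 2 by norm_num) m
  omega

/-- an element of `Q` outside `Q²` generates `Q` -/
theorem q_mem_of [Finite G] (h : Start0 K t q) {a : G} (ha : a ∈ zpowers q)
    (ha2 : a ∉ zpowers (q ^ 2)) : q ∈ zpowers a := by
  obtain ⟨n, hn⟩ := IsPGroup.iff_card.1 h.pQ
  rw [Nat.card_zpowers] at hn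
  obtain ⟨i, rfl⟩ : ∃ i : ℕ, q ^ i = a := by
    have h1 : a ∈ Submonoid.powers q := mem_powers_iff_mem_zpowers.2 ha
    obtain ⟨i, hi⟩ := Submonoid.mem_powers_iff _ _ |>.1 h1
    exact ⟨i, hi⟩
  have hodd : Odd i := by
    rw [← Nat.not_even_iff_odd]
    rintro ⟨j, rfl⟩
    apply ha2
    rw [← two_mul, pow_mul]
    exact pow_mem (mem_zpowers _) j
  have hco : Nat.Coprime i (orderOf q) := by
    rw [hn]
    exact Nat.Coprime.pow_right n (Nat.coprime_two_right.2 hodd)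
  obtain ⟨m, hm⟩ := exists_pow_eq_self_of_coprime hco
  have h5 : (q ^ i) ^ m ∈ zpowers (q ^ i) := pow_mem (mem_zpowers (q ^ i)) m
  rwa [hm] at h5

theorem conjQ2 (h : Start0 K t q) {c : G} (hc : c * t = t * c) {y : G} (hy : y ∈ zpowers (q ^ 2)) :
    c * y * c⁻¹ ∈ zpowers (q ^ 2) := by
  obtain ⟨j, hj⟩ := mem_zpowers_iff.1 (conjQ h hc (mem_zpowers q))
  obtain ⟨i, rfl⟩ := mem_zpowers_iff.1 hy
  rw [← conj_zpow]
  apply zpow_mem
  have h1 : c * q ^ 2 * c⁻¹ = (c * q * c⁻¹) * (c * q * c⁻¹) := by rw [pow_two]; group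
  rw [h1, ← hj]
  exact sq_mem_Q2 (zpow_mem (mem_zpowers q) j)

theorem mem_M2 (h : Start0 K t q) {y : G} :
    y ∈ zpowers (q ^ 2) ⊔ K ↔ ∃ a ∈ zpowers (q ^ 2), ∃ k ∈ K, y = a * k :=
  mem_sup_comm fun a ha k hk => h.QK a (Q2_le ha) k hk

/-- commutators with elements of `QK` lie in `⟨q²⟩K` -/
theorem comm_M (F : Facts K t q z T) {c d : G} (hc : c ∈ zpowers q ⊔ K) (hd : d * t = t * d) :
    c * d * c⁻¹ * d⁻¹ ∈ zpowers (q ^ 2) ⊔ K := by
  obtain ⟨a, ha, k, hk, rfl⟩ := (mem_M F.toStart0).1 hc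
  have h1 : a * k * d * (a * k)⁻¹ * d⁻¹ =
      (a * (d * a⁻¹ * d⁻¹)) * (k * (d * k⁻¹ * d⁻¹)) := by
    have h2 : d * a⁻¹ * d⁻¹ ∈ zpowers q := conjQ F.toStart0 hd (inv_mem ha)
    have h3 : k * (d * k⁻¹ * d⁻¹) ∈ K := mul_mem hk (conjK F.toStart0 hd (inv_mem hk))
    have h4 := F.QK _ h2 _ h3
    have h5 : (a * k)⁻¹ = k⁻¹ * a⁻¹ := mul_inv_rev a k
    calc a * k * d * (a * k)⁻¹ * d⁻¹ = a * (k * (d * k⁻¹ * d⁻¹) * (d * a⁻¹ * d⁻¹)) := by
          rw [h5]; group
      _ = a * (d * a⁻¹ * d⁻¹ * (k * (d * k⁻¹ * d⁻¹))) := by rw [h4]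
      _ = _ := by group
  rw [h1]
  refine (mem_M2 F.toStart0).2 ⟨_, ?_, _, mul_mem hk (conjK F.toStart0 hd (inv_mem hk)), rfl⟩
  have h6 : d * a⁻¹ * d⁻¹ = (d * a * d⁻¹)⁻¹ := by group
  rw [h6]
  by_cases ha2 : a ∈ zpowers (q ^ 2)
  · exact mul_mem ha2 (inv_mem (conjQ2 F.toStart0 hd ha2))
  · have h7 : d * a * d⁻¹ ∉ zpowers (q ^ 2) := by
      intro h
      apply ha2
      have h8 := conjQ2 F.toStart0 (inv_comm hd) h
      have h9 : d⁻¹ * (d * a * d⁻¹) * d⁻¹⁻¹ = a := by group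
      rwa [h9] at h8
    have h8 := (Q2_or ha).resolve_left ha2
    have h9 := (Q2_or (conjQ F.toStart0 hd ha)).resolve_left h7
    have h10 : a * (d * a * d⁻¹)⁻¹ = a * q⁻¹ * (d * a * d⁻¹ * q⁻¹)⁻¹ := by group
    rw [h10]
    exact mul_mem h8 (inv_mem h9)

theorem comm_T (F : Facts K t q z T) {c d : G} (hc : c ∈ T) (hd : d ∈ T) :
    c * d * c⁻¹ * d⁻¹ ∈ zpowers (q ^ 2) ⊔ K := by
  by_cases hcM : c ∈ zpowers q ⊔ K
  · exact comm_M F hcM (F.tc d hd)
  by_cases hdM : d ∈ zpowers q ⊔ K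
  · have h1 := inv_mem (comm_M F hdM (F.tc c hc))
    have : (d * c * d⁻¹ * c⁻¹)⁻¹ = c * d * c⁻¹ * d⁻¹ := by group
    rwa [this] at h1
  · have h1 := comm_M F (F.idx c hc d hd hcM hdM) (F.tc d hd)
    have : c * d⁻¹ * d * (c * d⁻¹)⁻¹ * d⁻¹ = c * d * c⁻¹ * d⁻¹ := by group
    rwa [this] at h1

/-- squares of elements of `T` lie in `⟨q²⟩K` (case B) -/
theorem sq_T [Finite G] (F : Facts K t q z T) (hB : (⟨t, F.tT⟩ : ↥T) ∈ commutator ↥T) {c : G}
    (hcT : c ∈ T) : c * c ∈ zpowers (q ^ 2) ⊔ K := by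
  have hc := F.tc c hcT
  by_cases hcM : c ∈ zpowers q ⊔ K
  · obtain ⟨a, ha, k, hk, rfl⟩ := (mem_M F.toStart0).1 hcM
    refine (mem_M2 F.toStart0).2 ⟨a * a, sq_mem_Q2 ha, k * k, mul_mem hk hk, ?_⟩
    calc a * k * (a * k) = a * (k * a) * k := by group
      _ = a * (a * k) * k := by rw [F.QK a ha k hk]
      _ = a * a * (k * k) := by group
  · have hcM' : c⁻¹ ∉ zpowers q ⊔ K := fun h => hcM (inv_mem_iff.1 h)
    have h1 := F.idx c hcT c⁻¹ (inv_mem hcT) hcM hcM'
    rw [inv_inv] at h1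
    obtain ⟨a, ha, k, hk, hak⟩ := (mem_M F.toStart0).1 h1
    have h2 : (c * a * c⁻¹) * (c * k * c⁻¹) = a * k := by
      calc (c * a * c⁻¹) * (c * k * c⁻¹) = c * (a * k) * c⁻¹ := by group
        _ = c * (c * c) * c⁻¹ := by rw [hak]
        _ = a * k := by rw [← hak]; group
    obtain ⟨h3, -⟩ := M_unique F.toStart (conjQ F.toStart0 hc ha) ha (conjK F.toStart0 hc hk) hk h2
    rw [mul_inv_eq_iff_eq_mul] at h3
    have ha2 : a ∈ zpowers (q ^ 2) := by
      by_contra ha2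
      have h4 := q_mem_of F.toStart0 ha ha2
      apply hcM
      apply mem_of_comm F hB hcT
      obtain ⟨m, hm⟩ := mem_zpowers_iff.1 h4
      rw [← hm]
      exact (show Commute c a from h3).zpow_right m
    rw [hak]
    exact (mem_M2 F.toStart0).2 ⟨a, ha2, k, hk, rfl⟩

theorem q_notMem_M2 [Finite G] (F : Facts K t q z T) : q ∉ zpowers (q ^ 2) ⊔ K := by
  intro h
  obtain ⟨a, ha, k, hk, hak⟩ := (mem_M2 F.toStart0).1 h
  have h1 : q * 1 = a * k := by rw [mul_one]; exact hak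
  obtain ⟨h2, -⟩ := M_unique F.toStart (mem_zpowers q) (Q2_le ha) (one_mem _) hk h1
  apply q_notMem_Q2 F.toStart0
  have h3 := ha
  rwa [← h2] at h3

/-- the sign of `C(t)` with value `-1` at `q` (case B) -/
theorem exists_sign [Finite G] (F : Facts K t q z T) (hB : (⟨t, F.tT⟩ : ↥T) ∈ commutator ↥T)
    (hqC : q ∈ centralizer ({t} : Set G)) :
    ∃ φ : ↥(centralizer ({t} : Set G)) →* ℤˣ, φ ⟨q, hqC⟩ = -1 := by
  classical
  have hqT : q ∈ T := F.zpowers_le_T (mem_zpowers q)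
  obtain ⟨N, hN, hqN, hle⟩ := exists_index_two (X := ↥T) (N0 := (zpowers (q ^ 2) ⊔ K).subgroupOf T)
    (q := ⟨q, hqT⟩)
    (fun c => mem_subgroupOf.2 (sq_T F hB c.2))
    (fun c d => mem_subgroupOf.2 (comm_T F c.2 d.2))
    (fun h => q_notMem_M2 F (mem_subgroupOf.1 h))
  have hTC : T ≤ centralizer ({t} : Set G) := fun x hx => mem_centralizer_singleton_iff.2 (F.tc x hx)
  set ψ : ↥T →* ℤˣ := Cfsg.Agent.TwoFusion.IndexTwo.signHom N hN with hψ
  set T' : Subgroup ↥(centralizer ({t} : Set G)) := T.subgroupOf (centralizer ({t} : Set G)) with hT'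
  let ψ' : ↥T' →* ℤˣ := ψ.comp (subgroupOfEquivOfLe hTC).toMonoidHom
  refine ⟨Cfsg.Agent.StdSpSix.TR.tr ψ', ?_⟩
  have : Fintype (↥(centralizer ({t} : Set G)) ⧸ T') := Fintype.ofFinite _
  rw [Cfsg.Agent.StdSpSix.TR.tr_apply]
  have hval : ∀ c : ↥(centralizer ({t} : Set G)) ⧸ T',
      ψ' (Cfsg.Agent.StdSpSix.TR.coc T' ⟨q, hqC⟩ c) = -1 := by
    intro c
    set g : ↥(centralizer ({t} : Set G)) := c.out with hg
    have hgt : (g : G) * t = t * g := mem_centralizer_singleton_iff.1 g.2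
    have hy : (g : G)⁻¹ * q * g ∈ zpowers q := by
      have := conjQ F.toStart0 (inv_comm hgt) (mem_zpowers q)
      rwa [inv_inv] at this
    have hfix : (⟨q, hqC⟩ : ↥(centralizer ({t} : Set G))) • c = c := by
      conv_lhs => rw [← QuotientGroup.out_eq' c]
      conv_rhs => rw [← QuotientGroup.out_eq' c]
      rw [MulAction.Quotient.smul_mk, smul_eq_mul, eq_comm, QuotientGroup.eq]
      refine mem_subgroupOf.2 ?_
      show (g : G)⁻¹ * (q * g) ∈ T
      rw [← mul_assoc]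
      exact F.zpowers_le_T hy
    have hcoc : ((Cfsg.Agent.StdSpSix.TR.coc T' ⟨q, hqC⟩ c : ↥(centralizer ({t} : Set G))) : G) =
        (g : G)⁻¹ * q * g := by
      rw [Cfsg.Agent.StdSpSix.TR.coc_coe, hfix]
      show (g : G)⁻¹ * (q * g) = _
      rw [mul_assoc]
    have hyT : (g : G)⁻¹ * q * g ∈ T := F.zpowers_le_T hy
    have h1 : ψ' (Cfsg.Agent.StdSpSix.TR.coc T' ⟨q, hqC⟩ c) = ψ ⟨(g : G)⁻¹ * q * g, hyT⟩ := by
      show ψ ((subgroupOfEquivOfLe hTC) _) = _
      congr 1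
      exact Subtype.ext hcoc
    rw [h1]
    apply Cfsg.Agent.TwoFusion.IndexTwo.signHom_of_not_mem hN
    intro hmem
    apply hqN
    have h2 : (g : G)⁻¹ * q * g ∉ zpowers (q ^ 2) := by
      intro h
      apply q_notMem_Q2 F.toStart0
      have h3 := conjQ2 F.toStart0 hgt h
      have h4 : (g : G) * ((g : G)⁻¹ * q * g) * (g : G)⁻¹ = q := by group
      rwa [h4] at h3
    have h3 := (Q2_or hy).resolve_left h2
    have h4 : (⟨(g : G)⁻¹ * q * g * q⁻¹, mul_mem hyT (inv_mem hqT)⟩ : ↥T) ∈ N :=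
      hle (mem_subgroupOf.2 ((le_sup_left : zpowers (q ^ 2) ≤ _) h3))
    have h5 : (⟨q, hqT⟩ : ↥T) =
        (⟨(g : G)⁻¹ * q * g * q⁻¹, mul_mem hyT (inv_mem hqT)⟩ : ↥T)⁻¹ * ⟨(g : G)⁻¹ * q * g, hyT⟩ := by
      apply Subtype.ext
      show q = ((g : G)⁻¹ * q * g * q⁻¹)⁻¹ * ((g : G)⁻¹ * q * g)
      group
    rw [h5]
    exact mul_mem (inv_mem h4) hmem
  rw [Finset.prod_congr rfl (fun c _ => hval c), Finset.prod_const]
  obtain ⟨TS, hTS⟩ := F.exists_sylow
  have hodd : Odd (Finset.univ : Finset (↥(centralizer ({t} : Set G)) ⧸ T')).card := by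
    rw [Finset.card_univ, ← Nat.card_eq_fintype_card]
    have h1 := TS.not_dvd_index
    rw [hTS] at h1
    rw [← Nat.not_even_iff_odd, even_iff_two_dvd]
    exact h1
  exact hodd.neg_one_pow

/-- **Case B**: `t ∈ [T, T]`: transfer of the generator `q` of `Q`. -/
theorem not_sylow_B [Finite G] (F : Facts K t q z T) (hG : ∀ H : Subgroup G, H.index ≠ 2)
    (hB : (⟨t, F.tT⟩ : ↥T) ∈ commutator ↥T) (S : Sylow 2 G) : (S : Subgroup G) ≠ T := by
  intro hST
  set C : Subgroup G := centralizer ({t} : Set G) with hC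
  have hQC : zpowers q ≤ C := fun x hx => mem_centralizer_singleton_iff.2 (F.Qt x hx)
  have hqC : q ∈ C := hQC (mem_zpowers q)
  have hTC : T ≤ C := fun x hx => mem_centralizer_singleton_iff.2 (F.tc x hx)
  -- the sign
  obtain ⟨φ, hφq⟩ := exists_sign F hB hqC
  -- the group `D = Q S`
  set D : Subgroup G := zpowers q ⊔ (T ⊓ K) with hD
  have hDT : D ≤ T := sup_le F.zpowers_le_T inf_le_left
  have hDq : ∀ d ∈ D, d * q = q * d := by
    intro d hd
    exact M_comm_q F.toStart0 ((sup_le_sup_left inf_le_right (zpowers q)) hd)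
  have h1 := OrbitTransfer.transfer_eq_single C φ q D (F.pT.to_le hDT) hDq hqC (hDT.trans hTC) ?_
  · rw [hφq, TR.Frame.hom_eq_one hG] at h1
    exact absurd h1 (by decide)
  intro g hg hfix k hk h
  by_cases hqk : q ^ k = 1
  · have : (⟨g⁻¹ * q ^ k * g, h⟩ : ↥C) = 1 := by
      apply Subtype.ext
      show g⁻¹ * q ^ k * g = 1
      rw [hqk]; group
    rw [this, map_one]
  exfalso
  set t' : G := g * t * g⁻¹ with ht'
  have ht't' : t' * t' = 1 := by
    calc t' * t' = g * (t * t) * g⁻¹ := by rw [ht']; group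
      _ = 1 := by rw [F.tt]; group
  -- `t'` commutes with `t`
  have h2 : q ^ k * t' = t' * q ^ k := mem_C.1 h
  have h3 : t ∈ zpowers (q ^ k) := t_mem F.toStart0 (pow_mem (mem_zpowers q) k) hqk
  have h4 : t' * t = t * t' := by
    obtain ⟨m, hm⟩ := mem_zpowers_iff.1 h3
    rw [← hm]
    exact ((show Commute (q ^ k) t' from h2).zpow_left m).eq.symm
  -- `t'` commutes with `S`
  have h5 : ∀ x ∈ T, x ∈ K → x * t' = t' * x := by
    intro x hx hxK
    obtain ⟨m, hm⟩ := hfix x ((le_sup_right : T ⊓ K ≤ D) ⟨hx, hxK⟩)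
    have h6 : q ^ m * x * t' = t' * (q ^ m * x) := mem_C.1 hm
    have h7 : (t' * q ^ m * t'⁻¹) * (t' * x * t'⁻¹) = q ^ m * x := by
      calc (t' * q ^ m * t'⁻¹) * (t' * x * t'⁻¹) = t' * (q ^ m * x) * t'⁻¹ := by group
        _ = q ^ m * x * t' * t'⁻¹ := by rw [h6]
        _ = q ^ m * x := by group
    obtain ⟨-, h8⟩ := M_unique F.toStart (conjQ F.toStart0 h4 (zpow_mem (mem_zpowers q) m))
      (zpow_mem (mem_zpowers q) m) (conjK F.toStart0 h4 hxK) hxK h7
    rw [mul_inv_eq_iff_eq_mul] at h8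
    exact h8.symm
  -- so `t' ∈ {t, z, tz}`
  have h6 := F.cent_S h4 ht't' h5
  have h7 : ∀ x ∈ T, x * t' = t' * x := by
    intro x hx
    have hxt := F.tc x hx
    have hxz := F.zc x hx
    rcases h6 with h6 | h6 | h6 | h6
    · rw [h6, mul_one, one_mul]
    · rw [h6]; exact hxt
    · rw [h6]; exact hxz
    · rw [h6]; exact (mul_comm' hxt.symm hxz.symm).symm
  have h8 := burn F S hST h7
  apply hg
  rw [mul_inv_eq_iff_eq_mul] at h8
  exact mem_centralizer_singleton_iff.2 h8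

/-- **FE3**: `T` is not a Sylow subgroup of `G`. -/
theorem not_sylow [Finite G] (F : Facts K t q z T) (hG : commutator G = ⊤)
    (hG2 : ∀ H : Subgroup G, H.index ≠ 2) (S : Sylow 2 G) : (S : Subgroup G) ≠ T := by
  by_cases h : (⟨t, F.tT⟩ : ↥T) ∈ commutator ↥T
  · exact not_sylow_B F hG2 h S
  · exact F.frame.not_sylow' hG h S

/-- **FE4**: `|Q| = 2`. -/
theorem Q_two [Finite G] (F : Facts K t q z T) (S : Sylow 2 G) (hTS : T < (S : Subgroup G)) :
    ∀ y ∈ zpowers q, y = 1 ∨ y = t := by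
  intro y0 hy0
  by_contra hcon
  rw [not_or] at hcon
  obtain ⟨hy01, hy0t⟩ := hcon
  -- a square root of `t` in `Q`
  obtain ⟨r, hrQ, hrr⟩ : ∃ r ∈ zpowers q, r * r = t := by
    obtain ⟨n, hn⟩ := IsPGroup.iff_card.1 F.pQ
    rw [Nat.card_zpowers] at hn
    rcases n with _ | _ | n
    · exfalso
      rw [pow_zero, orderOf_eq_one_iff] at hn
      rw [hn, zpowers_one_eq_bot, mem_bot] at hy0
      exact hy01 hy0
    · exfalso
      have h1 : y0 * y0 = 1 := by
        obtain ⟨i, rfl⟩ := mem_zpowers_iff.1 hy0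
        have h2 : q ^ 2 = 1 := by
          have := pow_orderOf_eq_one q
          rwa [hn] at this
        rw [← zpow_add, ← two_mul, zpow_mul]
        have h3 : q ^ (2 : ℤ) = 1 := by exact_mod_cast h2
        rw [h3, one_zpow]
      exact hy0t (F.uniq hy0 h1 hy01)
    · refine ⟨q ^ (2 ^ n), pow_mem (mem_zpowers q) _, ?_⟩
      have h1 : q ^ (2 ^ n) * q ^ (2 ^ n) = q ^ (2 ^ (n + 1)) := by
        rw [← pow_add, ← two_mul, ← pow_succ']
      rw [h1]
      apply F.uniq (pow_mem (mem_zpowers q) _)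
      · rw [← pow_add, ← two_mul, ← pow_succ', ← hn, pow_orderOf_eq_one]
      · intro h
        have h2 := orderOf_dvd_of_pow_eq_one h
        rw [hn] at h2
        have h3 := Nat.le_of_dvd (pow_pos two_pos _) h2
        rw [pow_succ 2 (n + 1)] at h3
        have := pow_pos (show 0 < 2 by norm_num) (n + 1)
        omega
  obtain ⟨x, hxS, hxN, hxT, hxt, hxz⟩ := F.frame.exists_swap S hTS
  set y : G := x * r * x⁻¹ with hy
  have hyT : y ∈ T := (mem_normalizer_iff.1 hxN r).1 (F.zpowers_le_T hrQ)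
  have hyy : y * y = t * z := by
    calc y * y = x * (r * r) * x⁻¹ := by rw [hy]; group
      _ = t * z := by rw [hrr, hxt]
  have htz : t * z = z * t := F.zc t F.tT
  have htz2 : (t * z) * (t * z) = 1 := by
    calc (t * z) * (t * z) = t * (z * t) * z := by group
      _ = t * (t * z) * z := by rw [htz]
      _ = (t * t) * (z * z) := by group
      _ = 1 := by rw [F.tt, F.zz, one_mul]
  have htzK : t * z ∉ K := by
    intro h
    apply F.t1
    apply KQ F.toStart _ F.tQ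
    have : t = t * z * z⁻¹ := by group
    rw [this]; exact mul_mem h (inv_mem F.zK)
  -- conjugation by `T` sends `y` to a power of `y`
  have hpow : ∀ s ∈ T, ∃ j : ℤ, s * y * s⁻¹ = y ^ j := by
    intro s hs
    have hs' : x⁻¹ * s * x ∈ T := by
      apply (mem_normalizer_iff.1 hxN _).2
      have : x * (x⁻¹ * s * x) * x⁻¹ = s := by group
      rw [this]; exact hs
    obtain ⟨j, hj⟩ := mem_zpowers_iff.1 (conjQ F.toStart0 (F.tc _ hs') (mem_zpowers q))
    obtain ⟨m, hm⟩ := mem_zpowers_iff.1 hrQ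
    refine ⟨j, ?_⟩
    have h1 : x⁻¹ * s * x * r * (x⁻¹ * s * x)⁻¹ = r ^ j := by
      rw [← hm, ← conj_zpow, ← hj, ← zpow_mul, ← zpow_mul, mul_comm]
    calc s * y * s⁻¹ = x * (x⁻¹ * s * x * r * (x⁻¹ * s * x)⁻¹) * x⁻¹ := by rw [hy]; group
      _ = x * r ^ j * x⁻¹ := by rw [h1]
      _ = y ^ j := by rw [hy, conj_zpow]
  have hyp : IsPGroup 2 ↥(zpowers y) := F.pT.to_le (by rw [zpowers_le]; exact hyT)
  have hy4 : y ^ (4 : ℤ) = 1 := by
    have : y ^ (4 : ℤ) = (y * y) * (y * y) := by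
      rw [show (4 : ℤ) = 1 + 1 + 1 + 1 by norm_num, zpow_add, zpow_add, zpow_add, zpow_one]
      group
    rw [this, hyy, htz2]
  by_cases hyM : y ∈ zpowers q ⊔ K
  · obtain ⟨a, ha, k, hk, hak⟩ := (mem_M F.toStart0).1 hyM
    have h1 : (a * a) * (k * k) = t * z := by
      rw [← hyy, hak]
      calc a * a * (k * k) = a * (a * k) * k := by group
        _ = a * (k * a) * k := by rw [F.QK a ha k hk]
        _ = a * k * (a * k) := by group
    obtain ⟨h2, h3⟩ := M_unique F.toStart (mul_mem ha ha) F.tQ (mul_mem hk hk) F.zK h1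
    have hkp : IsPGroup 2 ↥(zpowers k) := by
      have : zpowers k ≤ T := by
        rw [zpowers_le]
        have : k = a⁻¹ * y := by rw [hak]; group
        rw [this]
        exact mul_mem (inv_mem (F.zpowers_le_T ha)) hyT
      exact F.pT.to_le this
    have hk4 : k ^ (4 : ℤ) = 1 := by
      have : k ^ (4 : ℤ) = (k * k) * (k * k) := by
        rw [show (4 : ℤ) = 1 + 1 + 1 + 1 by norm_num, zpow_add, zpow_add, zpow_add, zpow_one]
        group
      rw [this, h3, F.zz]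
    have h4 : ∀ s ∈ T, s ∈ K → s * k = k * s := by
      intro s hs hsK
      obtain ⟨j, hj⟩ := hpow s hs
      have hcom : Commute a k := (F.QK a ha k hk).symm
      have h5 : a * (s * k * s⁻¹) = a ^ j * k ^ j := by
        rw [← hcom.mul_zpow, ← hak, ← hj, hak]
        have h6 := F.QK a ha s hsK
        calc a * (s * k * s⁻¹) = (a * s) * k * s⁻¹ := by group
          _ = (s * a) * k * s⁻¹ := by rw [h6]
          _ = s * (a * k) * s⁻¹ := by group
      obtain ⟨h6, h7⟩ := M_unique F.toStart ha (zpow_mem ha j)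
        (mul_mem (mul_mem hsK hk) (inv_mem hsK)) (zpow_mem hk j) h5
      -- `4 ∣ j - 1`
      have h8 : a ^ (j - 1) = 1 := by
        rw [zpow_sub_one, ← h6, mul_inv_cancel]
      have h9 : (orderOf a : ℤ) ∣ j - 1 := orderOf_dvd_iff_zpow_eq_one.2 h8
      have h10 : orderOf a = 2 ^ 2 := by
        apply orderOf_eq_prime_pow
        · intro h
          rw [pow_one, pow_two, h2] at h
          exact F.t1 h
        · rw [show 2 ^ (1 + 1) = 2 * 2 by norm_num, pow_mul, pow_two a, pow_two, h2, F.tt]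
      rw [h10] at h9
      obtain ⟨i, hi⟩ := h9
      have h11 : k ^ j = k := by
        have : j = 4 * i + 1 := by
          have : j - 1 = 4 * i := by rw [hi]; norm_num
          omega
        rw [this, zpow_add_one, zpow_mul, hk4, one_zpow, one_mul]
      rw [h11, mul_inv_eq_iff_eq_mul] at h7
      exact h7
    rcases F.cent_S_K hk hkp h4 with h5 | h5
    · rw [h5, one_mul] at h3
      exact F.z1 h3.symm
    · rw [h5, F.zz] at h3
      exact F.z1 h3.symm
  · apply hyM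
    apply F.T1s y (F.tc y hyT) hyp
    intro s hs hsK
    obtain ⟨j, hj⟩ := hpow s hs
    have h1 : y ^ (j - 1) ∈ K := by
      rw [zpow_sub_one, ← hj]
      have : s * y * s⁻¹ * y⁻¹ = s * (y * s⁻¹ * y⁻¹) := by group
      rw [this]
      exact mul_mem hsK (conjK F.toStart0 (F.tc y hyT) (inv_mem hsK))
    have h2 : y ^ (j - 1) = 1 := by
      have hyy2 : y ^ (2 : ℤ) = t * z := by
        rw [show (2 : ℤ) = 1 + 1 by norm_num, zpow_add, zpow_one, hyy]
      have htz2' : (t * z) ^ (2 : ℤ) = 1 := by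
        rw [show (2 : ℤ) = 1 + 1 by norm_num, zpow_add, zpow_one, htz2]
      rcases Int.even_or_odd' (j - 1) with ⟨i, hi | hi⟩
      · rw [hi, zpow_mul, hyy2] at h1 ⊢
        rcases Int.even_or_odd' i with ⟨l, hl | hl⟩
        · rw [hl, zpow_mul, htz2', one_zpow]
        · exfalso
          rw [hl, zpow_add_one, zpow_mul, htz2', one_zpow, one_mul] at h1
          exact htzK h1
      · exfalso
        have h3 := mul_mem h1 h1
        rw [← zpow_add, ← two_mul, hi, mul_add, mul_one, zpow_add, zpow_mul, hyy2] at h3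
        have h4 : (t * z) ^ (2 * i) = 1 := by rw [zpow_mul, htz2', one_zpow]
        rw [h4, one_mul] at h3
        exact htzK h3
    rw [zpow_sub_one, ← hj, mul_inv_eq_one, mul_inv_eq_iff_eq_mul] at h2
    exact h2

/-- **The output of the front end.** -/
theorem main [Finite G] (F : Facts K t q z T) (hG : commutator G = ⊤)
    (hG2 : ∀ H : Subgroup G, H.index ≠ 2) :
    TR.Frame t z T ∧ (∀ y ∈ zpowers q, y = 1 ∨ y = t) ∧
    ∃ S : Sylow 2 G, T < (S : Subgroup G) ∧ (∀ s ∈ (S : Subgroup G), s * z = z * s) ∧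
      (∃ x ∈ (S : Subgroup G), x ∈ normalizer (T : Set G) ∧ x ∉ T ∧ x * t * x⁻¹ = t * z ∧
        x * z * x⁻¹ = z) ∧
      (∀ g, g * t * g⁻¹ ≠ z) ∧
      (⟨t, mem_centralizer_singleton_iff.2 F.frame.comm⟩ : centralizer ({z} : Set G)) ∈
        commutator (centralizer ({z} : Set G)) := by
  have Fr := F.frame
  obtain ⟨S, hS⟩ := F.pT.exists_le_sylow
  have hlt : T < (S : Subgroup G) := lt_of_le_of_ne hS fun h => not_sylow F hG hG2 S h.symm
  obtain ⟨x, hxS, hxN, hxT, hxt, hxz⟩ := Fr.exists_swap S hlt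
  have hnc := Fr.not_conj S hlt
  have hnc2 : ∀ g, g * (t * z) * g⁻¹ ≠ z := by
    intro g hg
    apply hnc (g * x)
    calc g * x * t * (g * x)⁻¹ = g * (x * t * x⁻¹) * g⁻¹ := by group
      _ = z := by rw [hxt]; exact hg
  exact ⟨Fr, Q_two F S hlt, S, hlt, Fr.z_central S hlt, ⟨x, hxS, hxN, hxT, hxt, hxz⟩, hnc,
    TFormula.mem_commutator hG Fr.tt T Fr.pT Fr.tc Fr.zc Fr.comm
      (fun g hg => Fr.unique_of_not_conj hnc hnc2 g hg)⟩

end Cfsg.Agent.OddHalf.Front.CycT
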