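import Cfsg.Agent.OddHalf.Front.Cyclic

/-!
# `T` is not a Sylow subgroup of `G`, and `|Q| = 2` (helper971)
-/

set_option autoImplicit false

namespace Cfsg.Agent.OddHalf.Front.NotSylow

open Subgroup Cfsg.Agent.OddHalf.Front.FE Cfsg.Agent.OddHalf.Front.Cyclic

universe u

variable {G : Type u} [Group G]

/-- a subgroup of index 2 avoiding `q`, over a subgroup with elementary abelian quotient -/
theorem exists_index_two {X : Type*} [Group X] [Finite X] {N0 : Subgroup X} {q : X}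
    (hsq : ∀ c : X, c * c ∈ N0) (hcm : ∀ c d : X, c * d * c⁻¹ * d⁻¹ ∈ N0) (hq : q ∉ N0) :
    ∃ N : Subgroup X, N.index = 2 ∧ q ∉ N := by
  have hfin : ({N : Subgroup X | N0 ≤ N ∧ q ∉ N}).Finite := Set.toFinite _
  obtain ⟨N, hN0, hN⟩ := hfin.exists_le_maximal (a := N0) ⟨le_rfl, hq⟩
  obtain ⟨⟨-, hqN⟩, hmax⟩ := hN
  have hnorm : ∀ c y : X, y ∈ N → c * y * c⁻¹ ∈ N := by
    intro c y hy
    have : c * y * c⁻¹ = c * y * c⁻¹ * y⁻¹ * y := by group
    rw [this]
    exact mul_mem (hN0 (hcm c y)) hy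
  have key : ∀ x : X, x ∉ N → x⁻¹ * q ∈ N := by
    intro x hx
    have hxx : x * x ∈ N := hN0 (hsq x)
    let N' : Subgroup X :=
      { carrier := {y | y ∈ N ∨ x⁻¹ * y ∈ N}
        one_mem' := Or.inl (one_mem _)
        mul_mem' := by
          rintro a b (ha | ha) (hb | hb)
          · exact Or.inl (mul_mem ha hb)
          · right
            have : x⁻¹ * (a * b) = (x⁻¹ * a * x⁻¹⁻¹) * (x⁻¹ * b) := by group
            rw [this]
            exact mul_mem (hnorm _ _ ha) hb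
          · right
            have : x⁻¹ * (a * b) = x⁻¹ * a * b := by group
            rw [this]; exact mul_mem ha hb
          · left
            have : a * b = (x * x) * (x⁻¹ * (x⁻¹ * a) * x⁻¹⁻¹) * (x⁻¹ * b) := by group
            rw [this]
            exact mul_mem (mul_mem hxx (hnorm _ _ ha)) hb
        inv_mem' := by
          rintro a (ha | ha)
          · exact Or.inl (inv_mem ha)
          · right
            have : x⁻¹ * a⁻¹ = (x⁻¹ * (x⁻¹ * a)⁻¹ * x⁻¹⁻¹) * (x * x)⁻¹ := by group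
            rw [this]
            exact mul_mem (hnorm _ _ (inv_mem ha)) (inv_mem hxx) }
    have h1 : N ≤ N' := fun y hy => Or.inl hy
    have h2 : q ∈ N' := by
      by_contra h
      have h3 := hmax (show N' ∈ {N : Subgroup X | N0 ≤ N ∧ q ∉ N} from ⟨hN0.trans h1, h⟩) h1
      apply hx
      apply h3
      right
      rw [inv_mul_cancel]; exact one_mem _
    rcases h2 with h2 | h2
    · exact absurd h2 hqN
    · exact h2
  refine ⟨N, ?_, hqN⟩
  rw [index_eq_two_iff]
  refine ⟨q, fun b => ?_⟩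
  by_cases hb : b ∈ N
  · right
    refine ⟨hb, fun h => hqN ?_⟩
    have : q = b⁻¹ * (b * q) := by group
    rw [this]; exact mul_mem (inv_mem hb) h
  · left
    refine ⟨?_, hb⟩
    have : b * q = b * b * (b⁻¹ * q) := by group
    rw [this]
    exact mul_mem (hN0 (hsq b)) (key b hb)

variable {K : Subgroup G} {t q z : G} {T : Subgroup G}

/-- `g⁻¹ y g ∈ C(t)` iff `y` commutes with `g t g⁻¹` -/
theorem mem_C {t g y : G} : g⁻¹ * y * g ∈ centralizer ({t} : Set G) ↔
    y * (g * t * g⁻¹) = g * t * g⁻¹ * y := by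
  rw [mem_centralizer_singleton_iff]
  constructor
  · intro h
    calc y * (g * t * g⁻¹) = g * (g⁻¹ * y * g * t) * g⁻¹ := by group
      _ = g * (t * (g⁻¹ * y * g)) * g⁻¹ := by rw [h]
      _ = g * t * g⁻¹ * y := by group
  · intro h
    calc g⁻¹ * y * g * t = g⁻¹ * (y * (g * t * g⁻¹)) * g := by group
      _ = g⁻¹ * (g * t * g⁻¹ * y) * g := by rw [h]
      _ = t * (g⁻¹ * y * g) := by group

/-- if `T` is a Sylow subgroup of `G` then `N(T)` centralizes `t` -/
theorem no_swap [Finite G] (F : Facts K t q z T) (S : Sylow 2 G) (hST : (S : Subgroup G) = T) {g : G}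
    (hgN : g ∈ normalizer (T : Set G)) : g * t * g⁻¹ = t := by
  have Fr := F.frame
  have hmem : ∀ y, y ∈ (S : Subgroup G) → y ∈ T := by
    intro y hy
    rwa [hST] at hy
  obtain ⟨hz, h1 | h1⟩ := Fr.act hgN
  · exact h1
  · exfalso
    obtain ⟨k, m, hm, hk⟩ := Nat.exists_eq_two_pow_mul_odd (orderOf_pos g).ne'
    set x := g ^ m with hx
    have hxp : IsPGroup 2 (zpowers x) := by
      apply IsPGroup.of_card (n := k)
      rw [Nat.card_zpowers, hx, orderOf_pow, hk, Nat.gcd_mul_left_left,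
        Nat.mul_div_cancel _ hm.pos]
    have hxN : x ∈ normalizer (T : Set G) := pow_mem hgN m
    have hxT : x ∈ T := by
      apply hmem
      have h2 : IsPGroup 2 ((zpowers x ⊔ T : Subgroup G)) :=
        hxp.to_sup_of_normal_right' F.pT (by rw [zpowers_le]; exact hxN)
      have h3 := S.is_maximal' h2 (by rw [hST]; exact le_sup_right)
      show x ∈ (S : Subgroup G)
      rw [← h3]
      exact (le_sup_left : zpowers x ≤ _) (mem_zpowers x)
    have hxt := F.tc x hxT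
    have hg2t : Commute (g * g) t := by
      show g * g * t = t * (g * g)
      rw [← mul_inv_eq_iff_eq_mul]
      calc g * g * t * (g * g)⁻¹ = g * (g * t * g⁻¹) * g⁻¹ := by group
        _ = g * (t * z) * g⁻¹ := by rw [h1]
        _ = (g * t * g⁻¹) * (g * z * g⁻¹) := by group
        _ = t := by rw [h1, hz, mul_assoc, F.zz, mul_one]
    obtain ⟨j, hj⟩ := hm
    have hx' : x = (g * g) ^ j * g := by
      rw [hx, hj, pow_succ, pow_mul, pow_two]
    have h4 : Commute ((g * g) ^ j) t := hg2t.pow_left j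
    have h5 : Commute ((g * g) ^ j * g) t := by
      rw [← hx']; exact hxt
    have h6 : Commute g t := by
      have := h4.inv_left.mul_left h5
      rwa [inv_mul_cancel_left] at this
    have h7 : g * t * g⁻¹ = t := by rw [h6.eq]; group
    rw [h7] at h1
    exact F.z1 (mul_eq_left.1 h1.symm)

/-- if `T` is a Sylow subgroup of `G`, then `t` is the only conjugate of `t` commuting with `T` -/
theorem burn [Finite G] (F : Facts K t q z T) (S : Sylow 2 G) (hST : (S : Subgroup G) = T) {g : G}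
    (hg : ∀ x ∈ T, x * (g * t * g⁻¹) = g * t * g⁻¹ * x) : g * t * g⁻¹ = t := by
  have hmem : ∀ y, y ∈ (S : Subgroup G) → y ∈ T := by
    intro y hy
    rwa [hST] at hy
  have h1 : t ∈ centralizer ((S : Subgroup G) : Set G) :=
    mem_centralizer_iff.2 fun x hx => F.tc x (hmem x hx)
  have h2 : g⁻¹⁻¹ * t * g⁻¹ ∈ centralizer ((S : Subgroup G) : Set G) := by
    rw [inv_inv]
    exact mem_centralizer_iff.2 fun x hx => hg x (hmem x hx)
  obtain ⟨n, hn, hnt⟩ := S.conj_eq_normalizer_conj_of_mem_centralizer t g⁻¹ h1 h2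
  rw [inv_inv] at hnt
  rw [hnt]
  have hn' : n⁻¹ ∈ normalizer (T : Set G) := by
    have h3 : n⁻¹ ∈ normalizer ((S : Subgroup G) : Set G) := inv_mem hn
    rwa [hST] at h3
  have h4 := no_swap F S hST hn'
  rwa [inv_inv] at h4

/-- **Case A**: `t ∉ [C(t), C(t)]`. -/
theorem not_sylow_A [Finite G] (F : Facts K t q z T) (hG : commutator G = ⊤)
    (hA : (⟨t, mem_centralizer_singleton_iff.2 rfl⟩ : ↥(centralizer ({t} : Set G))) ∉
      commutator ↥(centralizer ({t} : Set G))) (S : Sylow 2 G) : (S : Subgroup G) ≠ T := by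
  intro hST
  set C : Subgroup G := centralizer ({t} : Set G) with hC
  have htC : t ∈ C := mem_centralizer_singleton_iff.2 rfl
  have hTC : T ≤ C := fun x hx => mem_centralizer_singleton_iff.2 (F.tc x hx)
  set φ : ↥C →* Abelianization ↥C := Abelianization.of with hφ
  have htt : t ^ 2 = 1 := by rw [pow_two]; exact F.tt
  have h1 := OrbitTransfer.transfer_eq_single' C φ t T F.pT F.tc htC hTC ?_ ?_
  · have h2 : MonoidHom.transfer φ t = 1 := by
      have h3 := Abelianization.commutator_subset_ker (MonoidHom.transfer φ)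
      rw [hG] at h3
      exact h3 (mem_top t)
    rw [h2] at h1
    apply hA
    rw [← Abelianization.ker_of, MonoidHom.mem_ker]
    exact h1.symm
  · intro g k h
    rw [← map_pow]
    have : (⟨g⁻¹ * t ^ k * g, h⟩ : ↥C) ^ 2 = 1 := by
      apply Subtype.ext
      rw [Subgroup.coe_pow]
      show (g⁻¹ * t ^ k * g) ^ 2 = 1
      have e : (g⁻¹ * t ^ k * g) ^ 2 = g⁻¹ * (t ^ k * t ^ k) * g := by rw [pow_two]; group
      rw [e, ← pow_add, ← two_mul, pow_mul, htt, one_pow]
      group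
    rw [this, map_one]
  · intro g hg hfix k hk h
    have hk2 : k ∣ 2 := (hk 2).1 (by rw [htt, mul_one, inv_mul_cancel]; exact one_mem _)
    rcases (Nat.dvd_prime Nat.prime_two).1 hk2 with rfl | rfl
    · exfalso
      apply hg
      have h2 : g⁻¹ * t * g ∈ C := by simpa using h
      have h3 : ∀ x ∈ T, x * (g * t * g⁻¹) = g * t * g⁻¹ * x := by
        intro x hx
        obtain ⟨m, hm⟩ := hfix x hx
        rw [← mem_C]
        have h4 : g⁻¹ * t ^ m * g ∈ C := by
          have : g⁻¹ * t ^ m * g = (g⁻¹ * t * g⁻¹⁻¹) ^ m := by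
            rw [conj_zpow, inv_inv]
          rw [this, inv_inv]
          exact zpow_mem h2 m
        have h5 : g⁻¹ * x * g = (g⁻¹ * t ^ m * g)⁻¹ * (g⁻¹ * (t ^ m * x) * g) := by group
        rw [h5]
        exact mul_mem (inv_mem h4) hm
      have h4 := burn F S hST h3
      rw [mul_inv_eq_iff_eq_mul] at h4
      exact mem_centralizer_singleton_iff.2 h4
    · have : (⟨g⁻¹ * t ^ 2 * g, h⟩ : ↥C) = 1 := by
        apply Subtype.ext
        show g⁻¹ * t ^ 2 * g = 1
        rw [htt]; group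
      rw [this, map_one]

/-- in case B an element of `C(t)` commuting with `q` lies in `QK` -/
theorem mem_of_comm (F : Facts K t q z T)
    (hB : (⟨t, mem_centralizer_singleton_iff.2 rfl⟩ : ↥(centralizer ({t} : Set G))) ∈
      commutator ↥(centralizer ({t} : Set G))) {c : G} (hc : c * t = t * c) (hcq : c * q = q * c) :
    c ∈ zpowers q ⊔ K := by
  by_contra hcM
  -- `q` is central in `C(t)`
  have hq : ∀ x : G, x * t = t * x → x * q = q * x := by
    intro x hx
    by_cases hxM : x ∈ zpowers q ⊔ K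
    · exact M_comm_q F.toStart0 hxM
    · have h1 := M_comm_q F.toStart0 (F.idx x c hx hc hxM hcM)
      have h2 := mul_comm' h1 hcq
      rwa [inv_mul_cancel_right] at h2
  have hQ : ∀ a ∈ zpowers q, ∀ x : G, x * t = t * x → x * a = a * x := by
    intro a ha x hx
    obtain ⟨m, rfl⟩ := mem_zpowers_iff.1 ha
    exact (show Commute x q from hq x hx).zpow_right m
  have hM : ∀ x ∈ zpowers q ⊔ K, ∀ y : G, y * t = t * y → x * y * x⁻¹ * y⁻¹ ∈ K := by
    intro x hx y hy
    obtain ⟨a, ha, k, hk, rfl⟩ := (mem_M F.toStart0).1 hx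
    have h1 : a * k * y * (a * k)⁻¹ * y⁻¹ = k * (y * k⁻¹ * y⁻¹) := by
      have h2 : a⁻¹ * y⁻¹ = y⁻¹ * a⁻¹ := (hQ a⁻¹ (inv_mem ha) y⁻¹ (inv_comm hy)).symm
      have h3 : k * y * k⁻¹ * y⁻¹ * a⁻¹ = a⁻¹ * (k * y * k⁻¹ * y⁻¹) := by
        apply hQ a⁻¹ (inv_mem ha)
        exact mul_comm' (mul_comm' (mul_comm' (F.Kt k hk) hy) (inv_comm (F.Kt k hk))) (inv_comm hy)
      calc a * k * y * (a * k)⁻¹ * y⁻¹ = a * k * y * k⁻¹ * (a⁻¹ * y⁻¹) := by group
        _ = a * (k * y * k⁻¹ * y⁻¹ * a⁻¹) := by rw [h2]; group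
        _ = a * (a⁻¹ * (k * y * k⁻¹ * y⁻¹)) := by rw [h3]
        _ = k * (y * k⁻¹ * y⁻¹) := by group
    rw [h1]
    exact mul_mem hk (conjK F.toStart0 hy (inv_mem hk))
  have hcomm : ∀ x y : G, x * t = t * x → y * t = t * y → x * y * x⁻¹ * y⁻¹ ∈ K := by
    intro x y hx hy
    by_cases hxM : x ∈ zpowers q ⊔ K
    · exact hM x hxM y hy
    by_cases hyM : y ∈ zpowers q ⊔ K
    · have h1 := inv_mem (hM y hyM x hx)
      have : (y * x * y⁻¹ * x⁻¹)⁻¹ = x * y * x⁻¹ * y⁻¹ := by group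
      rwa [this] at h1
    · have h1 := hM _ (F.idx x y hx hy hxM hyM) y hy
      have : x * y⁻¹ * y * (x * y⁻¹)⁻¹ * y⁻¹ = x * y * x⁻¹ * y⁻¹ := by group
      rwa [this] at h1
  have hle : commutator ↥(centralizer ({t} : Set G)) ≤ K.subgroupOf (centralizer ({t} : Set G)) := by
    rw [commutator_def, commutator_le]
    rintro ⟨x, hx⟩ - ⟨y, hy⟩ -
    rw [mem_subgroupOf]
    exact hcomm x y (mem_centralizer_singleton_iff.1 hx) (mem_centralizer_singleton_iff.1 hy)
  have h1 : t ∈ K := mem_subgroupOf.1 (hle hB)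
  exact F.t1 (KQ F.toStart h1 F.tQ)

/-! ### The subgroup `⟨q²⟩K` -/

theorem mem_sup_comm {A K : Subgroup G} (hc : ∀ a ∈ A, ∀ k ∈ K, k * a = a * k) {y : G} :
    y ∈ A ⊔ K ↔ ∃ a ∈ A, ∃ k ∈ K, y = a * k := by
  constructor
  · intro hy
    let M : Subgroup G :=
      { carrier := {y | ∃ a ∈ A, ∃ k ∈ K, y = a * k}
        one_mem' := ⟨1, one_mem _, 1, one_mem _, by group⟩
        mul_mem' := by
          rintro _ _ ⟨a, ha, k, hk, rfl⟩ ⟨b, hb, l, hl, rfl⟩
          refine ⟨a * b, mul_mem ha hb, k * l, mul_mem hk hl, ?_⟩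
          calc a * k * (b * l) = a * (k * b) * l := by group
            _ = a * (b * k) * l := by rw [hc b hb k hk]
            _ = a * b * (k * l) := by group
        inv_mem' := by
          rintro _ ⟨a, ha, k, hk, rfl⟩
          refine ⟨a⁻¹, inv_mem ha, k⁻¹, inv_mem hk, ?_⟩
          rw [mul_inv_rev, hc a⁻¹ (inv_mem ha) k⁻¹ (inv_mem hk)] }
    have h1 : A ⊔ K ≤ M := by
      rw [sup_le_iff]
      exact ⟨fun a ha => ⟨a, ha, 1, one_mem _, by group⟩, fun k hk => ⟨1, one_mem _, k, hk, by group⟩⟩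
    exact h1 hy
  · rintro ⟨a, ha, k, hk, rfl⟩
    exact mul_mem ((le_sup_left : A ≤ _) ha) ((le_sup_right : K ≤ _) hk)

theorem Q2_le : zpowers (q ^ 2) ≤ zpowers q := by
  rw [zpowers_le]; exact pow_mem (mem_zpowers q) 2

theorem sq_mem_Q2 {a : G} (ha : a ∈ zpowers q) : a * a ∈ zpowers (q ^ 2) := by
  obtain ⟨i, rfl⟩ := mem_zpowers_iff.1 ha
  refine mem_zpowers_iff.2 ⟨i, ?_⟩
  rw [← zpow_natCast q 2, ← zpow_mul, ← zpow_add]
  congr 1
  push_cast
  ring

theorem Q2_or {a : G} (ha : a ∈ zpowers q) : a ∈ zpowers (q ^ 2) ∨ a * q⁻¹ ∈ zpowers (q ^ 2) := by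
  obtain ⟨i, rfl⟩ := mem_zpowers_iff.1 ha
  rcases Int.even_or_odd' i with ⟨j, hj | hj⟩
  · left
    refine mem_zpowers_iff.2 ⟨j, ?_⟩
    rw [← zpow_natCast q 2, ← zpow_mul, hj]
    rfl
  · right
    refine mem_zpowers_iff.2 ⟨j, ?_⟩
    rw [← zpow_natCast q 2, ← zpow_mul, hj, zpow_add_one, mul_inv_cancel_right]
    rfl

theorem q_notMem_Q2 [Finite G] (h : Start0 K t q) : q ∉ zpowers (q ^ 2) := by
  intro hq
  obtain ⟨n, hn⟩ := IsPGroup.iff_card.1 h.pQ
  rw [Nat.card_zpowers] at hn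
  have hq1 : q ≠ 1 := by
    rintro rfl
    have := h.tQ
    rw [zpowers_one_eq_bot, mem_bot] at this
    exact h.t1 this
  have h1 : orderOf (q ^ 2) = orderOf q := by
    have h2 : zpowers (q ^ 2) = zpowers q := by
      apply le_antisymm Q2_le
      rw [zpowers_le]; exact hq
    rw [← Nat.card_zpowers, ← Nat.card_zpowers, h2]
  rw [orderOf_pow, hn] at h1
  have hn0 : n ≠ 0 := by
    rintro rfl
    rw [pow_zero, orderOf_eq_one_iff] at hn
    exact hq1 hn
  obtain ⟨m, rfl⟩ := Nat.exists_eq_succ_of_ne_zero hn0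
  have h3 : (2 ^ m.succ).gcd 2 = 2 := by
    apply Nat.gcd_eq_right
    exact dvd_pow_self 2 (Nat.succ_ne_zero m)
  rw [h3, pow_succ, Nat.mul_div_cancel _ two_pos] at h1
  have := pow_pos (show 0 < 2 by norm_num) m
  omega

/-- an element of `Q` outside `Q²` generates `Q` -/
theorem q_mem_of [Finite G] (h : Start0 K t q) {a : G} (ha : a ∈ zpowers q)
    (ha2 : a ∉ zpowers (q ^ 2)) : q ∈ zpowers a := by
  obtain ⟨n, hn⟩ := IsPGroup.iff_card.1 h.pQ
  rw [Nat.card_zpowers] at hn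
  obtain ⟨i, rfl⟩ : ∃ i : ℕ, q ^ i = a := by
    have h1 : a ∈ Submonoid.powers q := mem_powers_iff_mem_zpowers.2 ha
    obtain ⟨i, hi⟩ := Submonoid.mem_powers_iff _ _ |>.1 h1
    exact ⟨i, hi⟩
  have hodd : Odd i := by
    rw [← Nat.not_even_iff_odd]
    rintro ⟨j, rfl⟩
    apply ha2
    rw [← two_mul, pow_mul]
    exact pow_mem (mem_zpowers _) j
  have hco : Nat.Coprime i (orderOf q) := by
    rw [hn]
    exact Nat.Coprime.pow_right n (Nat.coprime_two_right.2 hodd)
  obtain ⟨m, hm⟩ := exists_pow_eq_self_of_coprime hco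
  have h5 : (q ^ i) ^ m ∈ zpowers (q ^ i) := pow_mem (mem_zpowers (q ^ i)) m
  rwa [hm] at h5

theorem conjQ2 (h : Start0 K t q) {c : G} (hc : c * t = t * c) {y : G} (hy : y ∈ zpowers (q ^ 2)) :
    c * y * c⁻¹ ∈ zpowers (q ^ 2) := by
  obtain ⟨j, hj⟩ := mem_zpowers_iff.1 (conjQ h hc (mem_zpowers q))
  obtain ⟨i, rfl⟩ := mem_zpowers_iff.1 hy
  rw [← conj_zpow]
  apply zpow_mem
  have h1 : c * q ^ 2 * c⁻¹ = (c * q * c⁻¹) * (c * q * c⁻¹) := by rw [pow_two]; group
  rw [h1, ← hj]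
  exact sq_mem_Q2 (zpow_mem (mem_zpowers q) j)

theorem mem_M2 (h : Start0 K t q) {y : G} :
    y ∈ zpowers (q ^ 2) ⊔ K ↔ ∃ a ∈ zpowers (q ^ 2), ∃ k ∈ K, y = a * k :=
  mem_sup_comm fun a ha k hk => h.QK a (Q2_le ha) k hk

/-- commutators with elements of `QK` lie in `⟨q²⟩K` -/
theorem comm_M (F : Facts K t q z T) {c d : G} (hc : c ∈ zpowers q ⊔ K) (hd : d * t = t * d) :
    c * d * c⁻¹ * d⁻¹ ∈ zpowers (q ^ 2) ⊔ K := by
  obtain ⟨a, ha, k, hk, rfl⟩ := (mem_M F.toStart0).1 hc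
  have h1 : a * k * d * (a * k)⁻¹ * d⁻¹ =
      (a * (d * a⁻¹ * d⁻¹)) * (k * (d * k⁻¹ * d⁻¹)) := by
    have h2 : d * a⁻¹ * d⁻¹ ∈ zpowers q := conjQ F.toStart0 hd (inv_mem ha)
    have h3 : k * (d * k⁻¹ * d⁻¹) ∈ K := mul_mem hk (conjK F.toStart0 hd (inv_mem hk))
    have h4 := F.QK _ h2 _ h3
    have h5 : (a * k)⁻¹ = k⁻¹ * a⁻¹ := mul_inv_rev a k
    calc a * k * d * (a * k)⁻¹ * d⁻¹ = a * (k * (d * k⁻¹ * d⁻¹) * (d * a⁻¹ * d⁻¹)) := by
          rw [h5]; group
      _ = a * (d * a⁻¹ * d⁻¹ * (k * (d * k⁻¹ * d⁻¹))) := by rw [h4]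
      _ = _ := by group
  rw [h1]
  refine (mem_M2 F.toStart0).2 ⟨_, ?_, _, mul_mem hk (conjK F.toStart0 hd (inv_mem hk)), rfl⟩
  have h6 : d * a⁻¹ * d⁻¹ = (d * a * d⁻¹)⁻¹ := by group
  rw [h6]
  by_cases ha2 : a ∈ zpowers (q ^ 2)
  · exact mul_mem ha2 (inv_mem (conjQ2 F.toStart0 hd ha2))
  · have h7 : d * a * d⁻¹ ∉ zpowers (q ^ 2) := by
      intro h
      apply ha2
      have h8 := conjQ2 F.toStart0 (inv_comm hd) h
      have h9 : d⁻¹ * (d * a * d⁻¹) * d⁻¹⁻¹ = a := by group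
      rwa [h9] at h8
    have h8 := (Q2_or ha).resolve_left ha2
    have h9 := (Q2_or (conjQ F.toStart0 hd ha)).resolve_left h7
    have h10 : a * (d * a * d⁻¹)⁻¹ = a * q⁻¹ * (d * a * d⁻¹ * q⁻¹)⁻¹ := by group
    rw [h10]
    exact mul_mem h8 (inv_mem h9)

theorem comm_C (F : Facts K t q z T) {c d : G} (hc : c * t = t * c) (hd : d * t = t * d) :
    c * d * c⁻¹ * d⁻¹ ∈ zpowers (q ^ 2) ⊔ K := by
  by_cases hcM : c ∈ zpowers q ⊔ K
  · exact comm_M F hcM hd
  by_cases hdM : d ∈ zpowers q ⊔ K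
  · have h1 := inv_mem (comm_M F hdM hc)
    have : (d * c * d⁻¹ * c⁻¹)⁻¹ = c * d * c⁻¹ * d⁻¹ := by group
    rwa [this] at h1
  · have h1 := comm_M F (F.idx c d hc hd hcM hdM) hd
    have : c * d⁻¹ * d * (c * d⁻¹)⁻¹ * d⁻¹ = c * d * c⁻¹ * d⁻¹ := by group
    rwa [this] at h1

/-- squares of elements of `C(t)` lie in `⟨q²⟩K` (case B) -/
theorem sq_C [Finite G] (F : Facts K t q z T)
    (hB : (⟨t, mem_centralizer_singleton_iff.2 rfl⟩ : ↥(centralizer ({t} : Set G))) ∈
      commutator ↥(centralizer ({t} : Set G))) {c : G} (hc : c * t = t * c) :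
    c * c ∈ zpowers (q ^ 2) ⊔ K := by
  by_cases hcM : c ∈ zpowers q ⊔ K
  · obtain ⟨a, ha, k, hk, rfl⟩ := (mem_M F.toStart0).1 hcM
    refine (mem_M2 F.toStart0).2 ⟨a * a, sq_mem_Q2 ha, k * k, mul_mem hk hk, ?_⟩
    calc a * k * (a * k) = a * (k * a) * k := by group
      _ = a * (a * k) * k := by rw [F.QK a ha k hk]
      _ = a * a * (k * k) := by group
  · have hcM' : c⁻¹ ∉ zpowers q ⊔ K := fun h => hcM (inv_mem_iff.1 h)
    have h1 := F.idx c c⁻¹ hc (inv_comm hc) hcM hcM'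
    rw [inv_inv] at h1
    obtain ⟨a, ha, k, hk, hak⟩ := (mem_M F.toStart0).1 h1
    have h2 : (c * a * c⁻¹) * (c * k * c⁻¹) = a * k := by
      calc (c * a * c⁻¹) * (c * k * c⁻¹) = c * (a * k) * c⁻¹ := by group
        _ = c * (c * c) * c⁻¹ := by rw [hak]
        _ = a * k := by rw [← hak]; group
    obtain ⟨h3, -⟩ := M_unique F.toStart (conjQ F.toStart0 hc ha) ha (conjK F.toStart0 hc hk) hk h2
    rw [mul_inv_eq_iff_eq_mul] at h3
    have ha2 : a ∈ zpowers (q ^ 2) := by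
      by_contra ha2
      have h4 := q_mem_of F.toStart0 ha ha2
      apply hcM
      apply mem_of_comm F hB hc
      obtain ⟨m, hm⟩ := mem_zpowers_iff.1 h4
      rw [← hm]
      exact (show Commute c a from h3).zpow_right m
    rw [hak]
    exact (mem_M2 F.toStart0).2 ⟨a, ha2, k, hk, rfl⟩

theorem q_notMem_M2 [Finite G] (F : Facts K t q z T) : q ∉ zpowers (q ^ 2) ⊔ K := by
  intro h
  obtain ⟨a, ha, k, hk, hak⟩ := (mem_M2 F.toStart0).1 h
  have h1 : q * 1 = a * k := by rw [mul_one]; exact hak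
  obtain ⟨h2, -⟩ := M_unique F.toStart (mem_zpowers q) (Q2_le ha) (one_mem _) hk h1
  apply q_notMem_Q2 F.toStart0
  have h3 := ha
  rwa [← h2] at h3

/-- **Case B**: `t ∈ [C(t), C(t)]`: transfer of the generator `q` of `Q`. -/
theorem not_sylow_B [Finite G] (F : Facts K t q z T) (hG : ∀ H : Subgroup G, H.index ≠ 2)
    (hB : (⟨t, mem_centralizer_singleton_iff.2 rfl⟩ : ↥(centralizer ({t} : Set G))) ∈
      commutator ↥(centralizer ({t} : Set G))) (S : Sylow 2 G) : (S : Subgroup G) ≠ T := by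
  intro hST
  set C : Subgroup G := centralizer ({t} : Set G) with hC
  have hQC : zpowers q ≤ C := fun x hx => mem_centralizer_singleton_iff.2 (F.Qt x hx)
  have hqC : q ∈ C := hQC (mem_zpowers q)
  have hTC : T ≤ C := fun x hx => mem_centralizer_singleton_iff.2 (F.tc x hx)
  -- the sign
  obtain ⟨N, hN, hqN⟩ := exists_index_two (X := ↥C) (N0 := (zpowers (q ^ 2) ⊔ K).subgroupOf C)
    (q := ⟨q, hqC⟩)
    (fun c => mem_subgroupOf.2 (sq_C F hB (mem_centralizer_singleton_iff.1 c.2)))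
    (fun c d => mem_subgroupOf.2 (comm_C F (mem_centralizer_singleton_iff.1 c.2)
      (mem_centralizer_singleton_iff.1 d.2)))
    (fun h => q_notMem_M2 F (mem_subgroupOf.1 h))
  set φ : ↥C →* ℤˣ := Cfsg.Agent.TwoFusion.IndexTwo.signHom N hN with hφ
  have hφq : φ ⟨q, hqC⟩ = -1 := Cfsg.Agent.TwoFusion.IndexTwo.signHom_of_not_mem hN hqN
  -- the group `D = Q S`
  set D : Subgroup G := zpowers q ⊔ (T ⊓ K) with hD
  have hDT : D ≤ T := sup_le F.zpowers_le_T inf_le_left
  have hDq : ∀ d ∈ D, d * q = q * d := by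
    intro d hd
    exact M_comm_q F.toStart0 ((sup_le_sup_left inf_le_right (zpowers q)) hd)
  have h1 := OrbitTransfer.transfer_eq_single C φ q D (F.pT.to_le hDT) hDq hqC (hDT.trans hTC) ?_
  · rw [hφq, TR.Frame.hom_eq_one hG] at h1
    exact absurd h1 (by decide)
  intro g hg hfix k hk h
  by_cases hqk : q ^ k = 1
  · have : (⟨g⁻¹ * q ^ k * g, h⟩ : ↥C) = 1 := by
      apply Subtype.ext
      show g⁻¹ * q ^ k * g = 1
      rw [hqk]; group
    rw [this, map_one]
  exfalso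
  set t' : G := g * t * g⁻¹ with ht'
  have ht't' : t' * t' = 1 := by
    calc t' * t' = g * (t * t) * g⁻¹ := by rw [ht']; group
      _ = 1 := by rw [F.tt]; group
  -- `t'` commutes with `t`
  have h2 : q ^ k * t' = t' * q ^ k := mem_C.1 h
  have h3 : t ∈ zpowers (q ^ k) := t_mem F.toStart0 (pow_mem (mem_zpowers q) k) hqk
  have h4 : t' * t = t * t' := by
    obtain ⟨m, hm⟩ := mem_zpowers_iff.1 h3
    rw [← hm]
    exact ((show Commute (q ^ k) t' from h2).zpow_left m).eq.symm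
  -- `t'` commutes with `S`
  have h5 : ∀ x ∈ T, x ∈ K → x * t' = t' * x := by
    intro x hx hxK
    obtain ⟨m, hm⟩ := hfix x ((le_sup_right : T ⊓ K ≤ D) ⟨hx, hxK⟩)
    have h6 : q ^ m * x * t' = t' * (q ^ m * x) := mem_C.1 hm
    have h7 : (t' * q ^ m * t'⁻¹) * (t' * x * t'⁻¹) = q ^ m * x := by
      calc (t' * q ^ m * t'⁻¹) * (t' * x * t'⁻¹) = t' * (q ^ m * x) * t'⁻¹ := by group
        _ = q ^ m * x * t' * t'⁻¹ := by rw [h6]
        _ = q ^ m * x := by group
    obtain ⟨-, h8⟩ := M_unique F.toStart (conjQ F.toStart0 h4 (zpow_mem (mem_zpowers q) m))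
      (zpow_mem (mem_zpowers q) m) (conjK F.toStart0 h4 hxK) hxK h7
    rw [mul_inv_eq_iff_eq_mul] at h8
    exact h8.symm
  -- so `t' ∈ {t, z, tz}`
  have h6 := F.cent_S h4 ht't' h5
  have h7 : ∀ x ∈ T, x * t' = t' * x := by
    intro x hx
    have hxt := F.tc x hx
    have hxz := F.zc x hx
    rcases h6 with h6 | h6 | h6 | h6
    · rw [h6, mul_one, one_mul]
    · rw [h6]; exact hxt
    · rw [h6]; exact hxz
    · rw [h6]; exact (mul_comm' hxt.symm hxz.symm).symm
  have h8 := burn F S hST h7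
  apply hg
  rw [mul_inv_eq_iff_eq_mul] at h8
  exact mem_centralizer_singleton_iff.2 h8

/-- **FE3**: `T` is not a Sylow subgroup of `G`. -/
theorem not_sylow [Finite G] (F : Facts K t q z T) (hG : commutator G = ⊤)
    (hG2 : ∀ H : Subgroup G, H.index ≠ 2) (S : Sylow 2 G) : (S : Subgroup G) ≠ T := by
  by_cases h : (⟨t, mem_centralizer_singleton_iff.2 rfl⟩ : ↥(centralizer ({t} : Set G))) ∈
      commutator ↥(centralizer ({t} : Set G))
  · exact not_sylow_B F hG2 h S
  · exact not_sylow_A F hG h S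

/-- **FE4**: `|Q| = 2`. -/
theorem Q_two [Finite G] (F : Facts K t q z T) (S : Sylow 2 G) (hTS : T < (S : Subgroup G)) :
    ∀ y ∈ zpowers q, y = 1 ∨ y = t := by
  intro y0 hy0
  by_contra hcon
  rw [not_or] at hcon
  obtain ⟨hy01, hy0t⟩ := hcon
  -- a square root of `t` in `Q`
  obtain ⟨r, hrQ, hrr⟩ : ∃ r ∈ zpowers q, r * r = t := by
    obtain ⟨n, hn⟩ := IsPGroup.iff_card.1 F.pQ
    rw [Nat.card_zpowers] at hn
    rcases n with _ | _ | n
    · exfalso
      rw [pow_zero, orderOf_eq_one_iff] at hn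
      rw [hn, zpowers_one_eq_bot, mem_bot] at hy0
      exact hy01 hy0
    · exfalso
      have h1 : y0 * y0 = 1 := by
        obtain ⟨i, rfl⟩ := mem_zpowers_iff.1 hy0
        have h2 : q ^ 2 = 1 := by
          have := pow_orderOf_eq_one q
          rwa [hn] at this
        rw [← zpow_add, ← two_mul, zpow_mul]
        have h3 : q ^ (2 : ℤ) = 1 := by exact_mod_cast h2
        rw [h3, one_zpow]
      exact hy0t (F.uniq hy0 h1 hy01)
    · refine ⟨q ^ (2 ^ n), pow_mem (mem_zpowers q) _, ?_⟩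
      have h1 : q ^ (2 ^ n) * q ^ (2 ^ n) = q ^ (2 ^ (n + 1)) := by
        rw [← pow_add, ← two_mul, ← pow_succ']
      rw [h1]
      apply F.uniq (pow_mem (mem_zpowers q) _)
      · rw [← pow_add, ← two_mul, ← pow_succ', ← hn, pow_orderOf_eq_one]
      · intro h
        have h2 := orderOf_dvd_of_pow_eq_one h
        rw [hn] at h2
        have h3 := Nat.le_of_dvd (pow_pos two_pos _) h2
        rw [pow_succ 2 (n + 1)] at h3
        have := pow_pos (show 0 < 2 by norm_num) (n + 1)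
        omega
  obtain ⟨x, hxS, hxN, hxT, hxt, hxz⟩ := F.frame.exists_swap S hTS
  set y : G := x * r * x⁻¹ with hy
  have hyT : y ∈ T := (mem_normalizer_iff.1 hxN r).1 (F.zpowers_le_T hrQ)
  have hyy : y * y = t * z := by
    calc y * y = x * (r * r) * x⁻¹ := by rw [hy]; group
      _ = t * z := by rw [hrr, hxt]
  have htz : t * z = z * t := F.zc t F.tT
  have htz2 : (t * z) * (t * z) = 1 := by
    calc (t * z) * (t * z) = t * (z * t) * z := by group
      _ = t * (t * z) * z := by rw [htz]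
      _ = (t * t) * (z * z) := by group
      _ = 1 := by rw [F.tt, F.zz, one_mul]
  have htzK : t * z ∉ K := by
    intro h
    apply F.t1
    apply KQ F.toStart _ F.tQ
    have : t = t * z * z⁻¹ := by group
    rw [this]; exact mul_mem h (inv_mem F.zK)
  -- conjugation by `T` sends `y` to a power of `y`
  have hpow : ∀ s ∈ T, ∃ j : ℤ, s * y * s⁻¹ = y ^ j := by
    intro s hs
    have hs' : x⁻¹ * s * x ∈ T := by
      apply (mem_normalizer_iff.1 hxN _).2
      have : x * (x⁻¹ * s * x) * x⁻¹ = s := by group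
      rw [this]; exact hs
    obtain ⟨j, hj⟩ := mem_zpowers_iff.1 (conjQ F.toStart0 (F.tc _ hs') (mem_zpowers q))
    obtain ⟨m, hm⟩ := mem_zpowers_iff.1 hrQ
    refine ⟨j, ?_⟩
    have h1 : x⁻¹ * s * x * r * (x⁻¹ * s * x)⁻¹ = r ^ j := by
      rw [← hm, ← conj_zpow, ← hj, ← zpow_mul, ← zpow_mul, mul_comm]
    calc s * y * s⁻¹ = x * (x⁻¹ * s * x * r * (x⁻¹ * s * x)⁻¹) * x⁻¹ := by rw [hy]; group
      _ = x * r ^ j * x⁻¹ := by rw [h1]
      _ = y ^ j := by rw [hy, conj_zpow]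
  have hyp : IsPGroup 2 ↥(zpowers y) := F.pT.to_le (by rw [zpowers_le]; exact hyT)
  have hy4 : y ^ (4 : ℤ) = 1 := by
    have : y ^ (4 : ℤ) = (y * y) * (y * y) := by
      rw [show (4 : ℤ) = 1 + 1 + 1 + 1 by norm_num, zpow_add, zpow_add, zpow_add, zpow_one]
      group
    rw [this, hyy, htz2]
  by_cases hyM : y ∈ zpowers q ⊔ K
  · obtain ⟨a, ha, k, hk, hak⟩ := (mem_M F.toStart0).1 hyM
    have h1 : (a * a) * (k * k) = t * z := by
      rw [← hyy, hak]
      calc a * a * (k * k) = a * (a * k) * k := by group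
        _ = a * (k * a) * k := by rw [F.QK a ha k hk]
        _ = a * k * (a * k) := by group
    obtain ⟨h2, h3⟩ := M_unique F.toStart (mul_mem ha ha) F.tQ (mul_mem hk hk) F.zK h1
    have hkp : IsPGroup 2 ↥(zpowers k) := by
      have : zpowers k ≤ T := by
        rw [zpowers_le]
        have : k = a⁻¹ * y := by rw [hak]; group
        rw [this]
        exact mul_mem (inv_mem (F.zpowers_le_T ha)) hyT
      exact F.pT.to_le this
    have hk4 : k ^ (4 : ℤ) = 1 := by
      have : k ^ (4 : ℤ) = (k * k) * (k * k) := by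
        rw [show (4 : ℤ) = 1 + 1 + 1 + 1 by norm_num, zpow_add, zpow_add, zpow_add, zpow_one]
        group
      rw [this, h3, F.zz]
    have h4 : ∀ s ∈ T, s ∈ K → s * k = k * s := by
      intro s hs hsK
      obtain ⟨j, hj⟩ := hpow s hs
      have hcom : Commute a k := (F.QK a ha k hk).symm
      have h5 : a * (s * k * s⁻¹) = a ^ j * k ^ j := by
        rw [← hcom.mul_zpow, ← hak, ← hj, hak]
        have h6 := F.QK a ha s hsK
        calc a * (s * k * s⁻¹) = (a * s) * k * s⁻¹ := by group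
          _ = (s * a) * k * s⁻¹ := by rw [h6]
          _ = s * (a * k) * s⁻¹ := by group
      obtain ⟨h6, h7⟩ := M_unique F.toStart ha (zpow_mem ha j)
        (mul_mem (mul_mem hsK hk) (inv_mem hsK)) (zpow_mem hk j) h5
      -- `4 ∣ j - 1`
      have h8 : a ^ (j - 1) = 1 := by
        rw [zpow_sub_one, ← h6, mul_inv_cancel]
      have h9 : (orderOf a : ℤ) ∣ j - 1 := orderOf_dvd_iff_zpow_eq_one.2 h8
      have h10 : orderOf a = 2 ^ 2 := by
        apply orderOf_eq_prime_pow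
        · intro h
          rw [pow_one, pow_two, h2] at h
          exact F.t1 h
        · rw [show 2 ^ (1 + 1) = 2 * 2 by norm_num, pow_mul, pow_two a, pow_two, h2, F.tt]
      rw [h10] at h9
      obtain ⟨i, hi⟩ := h9
      have h11 : k ^ j = k := by
        have : j = 4 * i + 1 := by
          have : j - 1 = 4 * i := by rw [hi]; norm_num
          omega
        rw [this, zpow_add_one, zpow_mul, hk4, one_zpow, one_mul]
      rw [h11, mul_inv_eq_iff_eq_mul] at h7
      exact h7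
    rcases F.cent_S_K hk hkp h4 with h5 | h5
    · rw [h5, one_mul] at h3
      exact F.z1 h3.symm
    · rw [h5, F.zz] at h3
      exact F.z1 h3.symm
  · apply hyM
    apply F.T1s y (F.tc y hyT) hyp
    intro s hs hsK
    obtain ⟨j, hj⟩ := hpow s hs
    have h1 : y ^ (j - 1) ∈ K := by
      rw [zpow_sub_one, ← hj]
      have : s * y * s⁻¹ * y⁻¹ = s * (y * s⁻¹ * y⁻¹) := by group
      rw [this]
      exact mul_mem hsK (conjK F.toStart0 (F.tc y hyT) (inv_mem hsK))
    have h2 : y ^ (j - 1) = 1 := by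
      have hyy2 : y ^ (2 : ℤ) = t * z := by
        rw [show (2 : ℤ) = 1 + 1 by norm_num, zpow_add, zpow_one, hyy]
      have htz2' : (t * z) ^ (2 : ℤ) = 1 := by
        rw [show (2 : ℤ) = 1 + 1 by norm_num, zpow_add, zpow_one, htz2]
      rcases Int.even_or_odd' (j - 1) with ⟨i, hi | hi⟩
      · rw [hi, zpow_mul, hyy2] at h1 ⊢
        rcases Int.even_or_odd' i with ⟨l, hl | hl⟩
        · rw [hl, zpow_mul, htz2', one_zpow]
        · exfalso
          rw [hl, zpow_add_one, zpow_mul, htz2', one_zpow, one_mul] at h1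
          exact htzK h1
      · exfalso
        have h3 := mul_mem h1 h1
        rw [← zpow_add, ← two_mul, hi, mul_add, mul_one, zpow_add, zpow_mul, hyy2] at h3
        have h4 : (t * z) ^ (2 * i) = 1 := by rw [zpow_mul, htz2', one_zpow]
        rw [h4, one_mul] at h3
        exact htzK h3
    rw [zpow_sub_one, ← hj, mul_inv_eq_one, mul_inv_eq_iff_eq_mul] at h2
    exact h2

/-- **The output of the front end.** -/
theorem main [Finite G] (F : Facts K t q z T) (hG : commutator G = ⊤)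
    (hG2 : ∀ H : Subgroup G, H.index ≠ 2) :
    TR.Frame t z T ∧ (∀ y ∈ zpowers q, y = 1 ∨ y = t) ∧
    ∃ S : Sylow 2 G, T < (S : Subgroup G) ∧ (∀ s ∈ (S : Subgroup G), s * z = z * s) ∧
      (∃ x ∈ (S : Subgroup G), x ∈ normalizer (T : Set G) ∧ x ∉ T ∧ x * t * x⁻¹ = t * z ∧
        x * z * x⁻¹ = z) ∧
      (∀ g, g * t * g⁻¹ ≠ z) ∧
      ∀ lam : centralizer ({z} : Set G) →* ℤˣ,
        lam ⟨t, mem_centralizer_singleton_iff.2 F.frame.comm⟩ = 1 := by
  have Fr := F.frame
  obtain ⟨S, hS⟩ := F.pT.exists_le_sylow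
  have hlt : T < (S : Subgroup G) := lt_of_le_of_ne hS fun h => not_sylow F hG hG2 S h.symm
  exact ⟨Fr, Q_two F S hlt, S, hlt, Fr.z_central S hlt, Fr.exists_swap S hlt, Fr.not_conj S hlt,
    Fr.tr hG2 S hlt⟩

end Cfsg.Agent.OddHalf.Front.NotSylow
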